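import Cfsg.Agent.Coprime.J1.ArithSearchA
import Cfsg.Agent.Coprime.J1.ArithSearchB

/-!
# The diophantine part: signed degrees on the 2-section of `t`
-/

namespace Cfsg.Agent.Coprime.J1

theorem inv_bounds {x : ℤ} {K : ℚ} (hK : 0 < K) (h : K ≤ |(x : ℚ)|) :
    1 / (x : ℚ) ≤ 1 / K ∧ -(1 / K) ≤ 1 / (x : ℚ) := by
  have h1 : |1 / (x : ℚ)| ≤ 1 / K := by
    rw [abs_div, abs_one]
    exact one_div_le_one_div_of_le hK h
  exact (abs_le.1 h1).symm

theorem abs_ge {x : ℤ} {K : ℤ} (h : K ≤ x ∨ x ≤ -K) : ((K : ℤ) : ℚ) ≤ |(x : ℚ)| := by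
  rw [← Int.cast_abs]
  exact_mod_cast le_abs.2 (h.imp_right fun h' => by omega)

theorem big_sum {N : ℕ} {x : ℤ} {S : ℚ} (hx : 1100 < x ∨ x < -1100) (hlt : x * x < (N : ℤ))
    (h : (N : ℚ) * S = 86400) : 0 < S ∧ S < 1 / 14 := by
  have h1 : (1210000 : ℤ) ≤ x * x := by
    rcases hx with hx | hx <;> nlinarith
  have hN : (1210000 : ℚ) ≤ (N : ℚ) := by
    have : (1210000 : ℤ) ≤ (N : ℤ) := by omega
    exact_mod_cast this
  constructor <;> by_contra hc <;> nlinarith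

theorem bound2 {N : ℕ} {g h r : ℤ} (hg : Ok N g 5) (hh : Ok N h 5) (hr : Ok N r (-1))
    (hsum : g + h + r = 1) (_hle : |g| ≤ |h|)
    (heq : (N : ℚ) * (1 - 25 / (g : ℚ) - 25 / (h : ℚ) - 1 / (r : ℚ)) = 86400) :
    |h| ≤ 1100 := by
  by_contra hc
  obtain ⟨g0, g1, g2, g3, g4, -, -⟩ := hg
  obtain ⟨r0, r1, r2, r3, r4, -, -⟩ := hr
  have hh' : 1100 < h ∨ h < -1100 := by
    rcases lt_abs.1 (not_le.1 hc) with h' | h' <;> omega
  obtain ⟨S0, S1⟩ := big_sum hh' hh.2.2.2.2.2.2 heq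
  have e25 : ∀ z : ℤ, (25 : ℚ) / (z : ℚ) = 25 * (1 / (z : ℚ)) := fun z => by ring
  rw [e25, e25] at S0 S1
  obtain ⟨hb1, hb2⟩ := inv_bounds (K := ((1100 : ℤ) : ℚ)) (by norm_num) (abs_ge (x := h) (by omega))
  obtain ⟨rb1, -⟩ := inv_bounds (K := ((7 : ℤ) : ℚ)) (by norm_num) (abs_ge (x := r) (by omega))
  push_cast at hb1 hb2 rb1
  rcases lt_or_gt_of_ne g0 with hneg | hpos
  · have : 1 / (g : ℚ) ≤ 0 := div_nonpos_of_nonneg_of_nonpos (by norm_num) (by exact_mod_cast hneg.le)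
    linarith
  rcases le_or_gt 100 g with hbig | hsmall
  · obtain ⟨gb, -⟩ := inv_bounds (K := ((100 : ℤ) : ℚ)) (by norm_num) (abs_ge (x := g) (by omega))
    push_cast at gb
    linarith
  obtain ⟨sb1, sb2⟩ := inv_bounds (K := ((1000 : ℤ) : ℚ)) (by norm_num) (abs_ge (x := r) (by omega))
  push_cast at sb1 sb2
  rcases le_or_gt 29 g with h29 | h29
  · obtain ⟨gb, -⟩ := inv_bounds (K := ((29 : ℤ) : ℚ)) (by norm_num) (abs_ge (x := g) (by omega))
    push_cast at gb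
    linarith
  · have : (1 : ℚ) / 21 ≤ 1 / (g : ℚ) :=
      one_div_le_one_div_of_le (by exact_mod_cast hpos) (by exact_mod_cast (by omega : g ≤ 21))
    linarith

theorem bound1g {N : ℕ} {g k l : ℤ} (hg : Ok N g 5) (hk : Ok N k 2) (hl : Ok N l 2)
    (heq : (N : ℚ) * (1 - 25 / (g : ℚ) - 4 / (k : ℚ) - 4 / (l : ℚ)) = 86400) :
    |g| ≤ 1100 := by
  by_contra hc
  have hg' : 1100 < g ∨ g < -1100 := by
    rcases lt_abs.1 (not_le.1 hc) with h' | h' <;> omega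
  obtain ⟨k0, k1, k2, k3, k4, -, -⟩ := hk
  obtain ⟨l0, l1, l2, l3, l4, -, -⟩ := hl
  obtain ⟨S0, S1⟩ := big_sum hg' hg.2.2.2.2.2.2 heq
  have e25 : ∀ (c : ℚ) (z : ℤ), c / (z : ℚ) = c * (1 / (z : ℚ)) := fun c z => by ring
  rw [e25 25, e25 4 k, e25 4 l] at S0 S1
  obtain ⟨gb, -⟩ := inv_bounds (K := ((1100 : ℤ) : ℚ)) (by norm_num) (abs_ge (x := g) (by omega))
  obtain ⟨kb, -⟩ := inv_bounds (K := ((10 : ℤ) : ℚ)) (by norm_num) (abs_ge (x := k) (by omega))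
  obtain ⟨lb, -⟩ := inv_bounds (K := ((10 : ℤ) : ℚ)) (by norm_num) (abs_ge (x := l) (by omega))
  push_cast at gb kb lb
  linarith

theorem bound1l {N : ℕ} {g k l : ℤ} (hg : Ok N g 5) (hk : Ok N k 2) (hl : Ok N l 2)
    (hsum : g + k + l = 1)
    (heq : (N : ℚ) * (1 - 25 / (g : ℚ) - 4 / (k : ℚ) - 4 / (l : ℚ)) = 86400) :
    |l| ≤ 1100 := by
  by_contra hc
  have hl' : 1100 < l ∨ l < -1100 := by
    rcases lt_abs.1 (not_le.1 hc) with h' | h' <;> omega
  obtain ⟨g0, g1, g2, g3, g4, -, -⟩ := hg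
  obtain ⟨k0, k1, k2, k3, k4, -, -⟩ := hk
  obtain ⟨S0, S1⟩ := big_sum hl' hl.2.2.2.2.2.2 heq
  have e25 : ∀ (c : ℚ) (z : ℤ), c / (z : ℚ) = c * (1 / (z : ℚ)) := fun c z => by ring
  rw [e25 25, e25 4 k, e25 4 l] at S0 S1
  obtain ⟨lb1, lb2⟩ := inv_bounds (K := ((1100 : ℤ) : ℚ)) (by norm_num) (abs_ge (x := l) (by omega))
  obtain ⟨kb1, -⟩ := inv_bounds (K := ((10 : ℤ) : ℚ)) (by norm_num) (abs_ge (x := k) (by omega))
  push_cast at lb1 lb2 kb1
  rcases lt_or_gt_of_ne g0 with hneg | hpos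
  · have : 1 / (g : ℚ) ≤ 0 := div_nonpos_of_nonneg_of_nonpos (by norm_num) (by exact_mod_cast hneg.le)
    linarith
  rcases le_or_gt 100 g with hbig | hsmall
  · obtain ⟨gb, -⟩ := inv_bounds (K := ((100 : ℤ) : ℚ)) (by norm_num) (abs_ge (x := g) (by omega))
    push_cast at gb
    linarith
  obtain ⟨sb1, sb2⟩ := inv_bounds (K := ((1000 : ℤ) : ℚ)) (by norm_num) (abs_ge (x := k) (by omega))
  push_cast at sb1 sb2
  rcases le_or_gt 29 g with h29 | h29
  · obtain ⟨gb, -⟩ := inv_bounds (K := ((29 : ℤ) : ℚ)) (by norm_num) (abs_ge (x := g) (by omega))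
    push_cast at gb
    linarith
  · have : (1 : ℚ) / 21 ≤ 1 / (g : ℚ) :=
      one_div_le_one_div_of_le (by exact_mod_cast hpos) (by exact_mod_cast (by omega : g ≤ 21))
    linarith

theorem int_of_rat {N : ℕ} {P T c : ℤ} {S : ℚ} (h : (N : ℚ) * S = c) (hS : S * (P : ℚ) = (T : ℚ)) :
    (N : ℤ) * T = c * P := by
  have h2 : (((N : ℤ) * T : ℤ) : ℚ) = ((c * P : ℤ) : ℚ) := by
    push_cast
    rw [← hS, ← h]
    ring
  exact_mod_cast h2

/-- No solution with both exceptional characters in the common part. -/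
theorem arithC {N : ℕ} {g r : ℤ} (h120 : 120 ∣ N) (h8 : (N / 8) % 2 = 1)
    (hg9 : Ok N g 9) (hg1 : Ok N g 1) (hr : Ok N r (-1)) (hsum : 2 * g + r = 1)
    (heq : (N : ℚ) * (1 - 82 / (g : ℚ) - 1 / (r : ℚ)) = 86400) : False := by
  have hg0 : (g : ℚ) ≠ 0 := by exact_mod_cast hg9.1
  have hr0 : (r : ℚ) ≠ 0 := by exact_mod_cast hr.1
  have hb : -1103 ≤ g ∧ g ≤ 1100 := by
    by_contra hc
    have hg' : 1100 < g ∨ g < -1100 := by omega
    obtain ⟨S0, S1⟩ := big_sum hg' hg9.2.2.2.2.2.2 heq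
    obtain ⟨gb, -⟩ := inv_bounds (K := ((1100 : ℤ) : ℚ)) (by norm_num) (abs_ge (x := g) (by omega))
    obtain ⟨rb, -⟩ := inv_bounds (K := ((1000 : ℤ) : ℚ)) (by norm_num) (abs_ge (x := r) (by omega))
    push_cast at gb rb
    rw [show (82 : ℚ) / g = 82 * (1 / g) by ring] at S1
    linarith
  obtain rfl : r = 1 - 2 * g := by omega
  have hNT : (N : ℤ) * (g * g * (1 - 2 * g) - 82 * g * (1 - 2 * g) - g * g) =
      86400 * (g * g * (1 - 2 * g)) := by
    refine int_of_rat (c := 86400) (heq.trans (by norm_num)) ?_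
    simp only [Int.cast_mul, Int.cast_sub, Int.cast_one, Int.cast_ofNat] at hr0 ⊢
    have hr0' : (1 : ℚ) - (g : ℚ) * 2 ≠ 0 := by rwa [mul_comm]
    field_simp
  obtain ⟨hord, hdiv⟩ := ordB_of h120 h8 (mul_ne_zero (mul_ne_zero hg9.1 hg9.1) hr.1) hNT
  have h3 := hg9.2.2.1
  have hall := List.all_eq_true.1 searchC_eq g (mem_cls hb.1 (by omega) (by omega))
  simp [hord, hdiv, hg9.okB, hg1.okB, hr.okB] at hall

/-- Two common constituents. -/
theorem arith2 {N : ℕ} {g h r m n : ℤ} (h120 : 120 ∣ N) (h8 : (N / 8) % 2 = 1)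
    (hg : Ok N g 5) (hh : Ok N h 5) (hr : Ok N r (-1)) (hm : Ok N m 3) (hn : Ok N n 3)
    (hsum : g + h + r = 1) (hsum2 : g + h + m + n = 0)
    (heq : (N : ℚ) * (1 - 25 / (g : ℚ) - 25 / (h : ℚ) - 1 / (r : ℚ)) = 86400)
    (heq2 : (N : ℚ) * (25 / (g : ℚ) + 25 / (h : ℚ) + 9 / (m : ℚ) + 9 / (n : ℚ)) = 57600) :
    N = 175560 ∨ (g = 21 ∧ h = -35) ∨ (g = -35 ∧ h = 21) := by
  have hb : |g| ≤ 1100 ∧ |h| ≤ 1100 := by
    rcases le_total |g| |h| with hle | hle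
    · have := bound2 hg hh hr hsum hle heq
      exact ⟨hle.trans this, this⟩
    · have := bound2 hh hg hr (by omega) hle (by rw [← heq]; ring)
      exact ⟨this, hle.trans this⟩
  rw [abs_le, abs_le] at hb
  obtain rfl : r = 1 - g - h := by omega
  have hg0 : (g : ℚ) ≠ 0 := by exact_mod_cast hg.1
  have hh0 : (h : ℚ) ≠ 0 := by exact_mod_cast hh.1
  have hr0 : ((1 - g - h : ℤ) : ℚ) ≠ 0 := by exact_mod_cast hr.1
  have hm0 : (m : ℚ) ≠ 0 := by exact_mod_cast hm.1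
  have hn0 : (n : ℚ) ≠ 0 := by exact_mod_cast hn.1
  have hNT : (N : ℤ) * (g * h * (1 - g - h) - 25 * h * (1 - g - h) - 25 * g * (1 - g - h) - g * h) =
      86400 * (g * h * (1 - g - h)) := by
    refine int_of_rat (c := 86400) (heq.trans (by norm_num)) ?_
    simp only [Int.cast_mul, Int.cast_sub, Int.cast_one, Int.cast_ofNat] at hr0 ⊢
    field_simp
  have hNA : (N : ℤ) * (25 * h * m * n + 25 * g * m * n + 9 * g * h * n + 9 * g * h * m) =
      57600 * (g * h * m * n) := by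
    refine int_of_rat (c := 57600) (heq2.trans (by norm_num)) ?_
    simp only [Int.cast_mul, Int.cast_add, Int.cast_ofNat]
    field_simp
  obtain ⟨hord, hdiv⟩ := ordB_of h120 h8 (mul_ne_zero (mul_ne_zero hg.1 hh.1) hr.1) hNT
  have g3 := hg.2.2.1
  have h3 := hh.2.2.1
  have hall := List.all_eq_true.1 (List.all_eq_true.1 search2G_eq g (mem_cls (by omega) (by omega)
    (by omega))) h (mem_cls (by omega) (by omega) (by omega))
  simp [hord, hdiv, hg.okB, hh.okB, hr.okB] at hall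
  rcases hall with ((hN | hs) | hs) | ⟨hN, hs⟩
  · left; exact_mod_cast hN
  · exact Or.inr (Or.inl hs)
  · exact Or.inr (Or.inr hs)
  · exfalso
    have m3 := hm.2.2.1
    have m7 := hm.2.2.2.2.2.2
    have mb : -1101 ≤ m ∧ m < 1100 := by
      constructor <;> by_contra hc <;> nlinarith
    simp only [search2, List.all_eq_true] at hs
    have := hs m (mem_cls mb.1 (by omega) (by omega))
    rw [show -(g + h) - m = n by omega] at this
    simp [hm.okB, hn.okB, hNA] at this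

/-- One common constituent. -/
theorem arith1 {N : ℕ} {g k l h m : ℤ} (h120 : 120 ∣ N) (h8 : (N / 8) % 2 = 1)
    (hg : Ok N g 5) (hk : Ok N k 2) (hl : Ok N l 2) (hh : Ok N h 6) (hm : Ok N m 3)
    (hsum : g + k + l = 1) (hsum2 : g + k + h + m = 0)
    (heq : (N : ℚ) * (1 - 25 / (g : ℚ) - 4 / (k : ℚ) - 4 / (l : ℚ)) = 86400)
    (heq2 : (N : ℚ) * (25 / (g : ℚ) + 4 / (k : ℚ) + 36 / (h : ℚ) + 9 / (m : ℚ)) = 57600) :
    False := by
  have hbg := bound1g hg hk hl heq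
  have hbk := bound1l hg hl hk (by omega) (by rw [← heq]; ring)
  rw [abs_le] at hbg hbk
  obtain rfl : l = 1 - g - k := by omega
  have hg0 : (g : ℚ) ≠ 0 := by exact_mod_cast hg.1
  have hk0 : (k : ℚ) ≠ 0 := by exact_mod_cast hk.1
  have hl0 : ((1 - g - k : ℤ) : ℚ) ≠ 0 := by exact_mod_cast hl.1
  have hh0 : (h : ℚ) ≠ 0 := by exact_mod_cast hh.1
  have hm0 : (m : ℚ) ≠ 0 := by exact_mod_cast hm.1
  have hNT : (N : ℤ) * (g * k * (1 - g - k) - 25 * k * (1 - g - k) - 4 * g * (1 - g - k) - 4 * g * k) =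
      86400 * (g * k * (1 - g - k)) := by
    refine int_of_rat (c := 86400) (heq.trans (by norm_num)) ?_
    simp only [Int.cast_mul, Int.cast_sub, Int.cast_one, Int.cast_ofNat] at hl0 ⊢
    field_simp
  have hNA : (N : ℤ) * (25 * k * h * m + 4 * g * h * m + 36 * g * k * m + 9 * g * k * h) =
      57600 * (g * k * h * m) := by
    refine int_of_rat (c := 57600) (heq2.trans (by norm_num)) ?_
    simp only [Int.cast_mul, Int.cast_add, Int.cast_ofNat]
    field_simp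
  obtain ⟨hord, hdiv⟩ := ordB_of h120 h8 (mul_ne_zero (mul_ne_zero hg.1 hk.1) hl.1) hNT
  have g3 := hg.2.2.1
  have k3 := hk.2.2.1
  have hall := List.all_eq_true.1 (List.all_eq_true.1 search1G_eq g (mem_cls (by omega) (by omega)
    (by omega))) k (mem_cls (by omega) (by omega) (by omega))
  simp [hord, hdiv, hg.okB, hk.okB, hl.okB] at hall
  obtain ⟨hN, hs⟩ := hall
  have h3 := hh.2.2.1
  have h7 := hh.2.2.2.2.2.2
  have hb : -5698 ≤ h ∧ h < 5697 := by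
    constructor <;> by_contra hc <;> nlinarith
  simp only [search1, List.all_eq_true] at hs
  have := hs h (mem_cls hb.1 (by omega) (by omega))
  rw [show -(g + k + h) = m by omega] at this
  simp [hh.okB, hm.okB, hNA] at this

end Cfsg.Agent.Coprime.J1
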