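import Mathlib.Data.Rat.Defs
import Mathlib.Tactic.Ring
import Mathlib.Tactic.FieldSimp
import Mathlib.Tactic.Linarith
import Mathlib.Tactic.LinearCombination
import Mathlib.Tactic.NormNum
import Mathlib.Data.Int.GCD
import Mathlib.Algebra.Order.Field.Basic

/-!
# The diophantine part: signed degrees on the 2-section of `t`
-/

namespace Cfsg.Agent.Coprime.J1

/-- The conditions on a signed degree `x` with value `v` at `t`. -/
def Ok (N : ℕ) (x v : ℤ) : Prop :=
  x ≠ 0 ∧ x ≠ v ∧ (x + 7 * v) % 8 = 0 ∧ (0 < x → 0 ≤ x + 7 * v) ∧ (x < 0 → x + 7 * v ≤ 0) ∧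
    x ∣ (N : ℤ) ∧ x * x < (N : ℤ)

/-- A computable version of `Ok`. -/
def okB (N x v : ℤ) : Bool :=
  x != 0 && x != v && (x + 7 * v) % 8 == 0 && (decide (0 < x) || decide (x + 7 * v ≤ 0)) &&
    (decide (x < 0) || decide (0 ≤ x + 7 * v)) && N % x == 0 && decide (x * x < N)

theorem Ok.okB {N : ℕ} {x v : ℤ} (h : Ok N x v) : okB N x v = true := by
  obtain ⟨h1, h2, h3, h4, h5, h6, h7⟩ := h
  simp only [J1.okB, Bool.and_eq_true, Bool.or_eq_true, bne_iff_ne, beq_iff_eq, decide_eq_true_eq]
  refine ⟨⟨⟨⟨⟨⟨h1, h2⟩, h3⟩, ?_⟩, ?_⟩, Int.emod_eq_zero_of_dvd h6⟩, h7⟩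
  · omega
  · omega

/-- The integers of a residue class modulo 8. -/
def cls (base : ℤ) (n : ℕ) : List ℤ := (List.range n).map fun i : ℕ => base + 8 * (i : ℤ)

theorem mem_cls {base x : ℤ} {n : ℕ} (h1 : base ≤ x) (h2 : x < base + 8 * n)
    (h3 : (x - base) % 8 = 0) : x ∈ cls base n := by
  simp only [cls, List.mem_map, List.mem_range]
  exact ⟨((x - base) / 8).toNat, by omega, by omega⟩

/-- A first cheap filter: the group order determined by three signed degrees. -/
def ordB (P T : ℤ) : Bool :=
  (86400 * P) % T == 0 && T != 0 && decide (0 < 86400 * P / T) && (86400 * P / T) % 120 == 0 &&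
    (86400 * P / T / 8) % 2 == 1

theorem ordB_of {N : ℕ} {P T : ℤ} (h120 : 120 ∣ N) (h8 : (N / 8) % 2 = 1) (hP : P ≠ 0)
    (h : (N : ℤ) * T = 86400 * P) : ordB P T = true ∧ 86400 * P / T = (N : ℤ) := by
  have hT : T ≠ 0 := by
    rintro rfl
    rw [mul_zero] at h
    omega
  have hdiv : 86400 * P / T = (N : ℤ) := by rw [← h, Int.mul_ediv_cancel _ hT]
  refine ⟨?_, hdiv⟩
  simp only [ordB, Bool.and_eq_true, bne_iff_ne, beq_iff_eq, decide_eq_true_eq, hdiv]
  obtain ⟨j, hj⟩ := h120
  refine ⟨⟨⟨⟨by rw [← h, Int.mul_emod_left], hT⟩, ?_⟩, ?_⟩, ?_⟩ <;> omega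

/-- The first search: the exceptional characters all avoid the two sums. -/
def searchC : Bool :=
  (cls (-1103) 277).all fun g =>
    let r := 1 - 2 * g
    let P := g * g * r
    let T := g * g * r - 82 * g * r - g * g
    !(ordB P T && okB (86400 * P / T) g 9 && okB (86400 * P / T) g 1 && okB (86400 * P / T) r (-1))

theorem searchC_eq : searchC = true := by decide +kernel

/-- The second search, with the second equation for the survivors. -/
def search2 (N g h : ℤ) : Bool :=
  (cls (-1101) 276).all fun m =>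
    let n := -(g + h) - m
    !(okB N m 3 && okB N n 3 &&
      N * (25 * h * m * n + 25 * g * m * n + 9 * g * h * n + 9 * g * h * m) == 57600 * (g * h * m * n))

/-- The search in the case of two common constituents. -/
def search2G (g : ℤ) : Bool :=
  (cls (-1099) 276).all fun h =>
    let r := 1 - g - h
    let P := g * h * r
    let T := g * h * r - 25 * h * r - 25 * g * r - g * h
    !(ordB P T && okB (86400 * P / T) g 5 && okB (86400 * P / T) h 5 &&
        okB (86400 * P / T) r (-1)) ||
      (86400 * P / T == 175560 || (g == 21 && h == -35) || (g == -35 && h == 21) ||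
        (decide ((86400 * P / T) ≤ 1100 * 1100) && search2 (86400 * P / T) g h))


/-- The third search, with the second equation for the survivors. -/
def search1 (N g k : ℤ) : Bool :=
  (cls (-5698) 1425).all fun h =>
    let m := -(g + k + h)
    !(okB N h 6 && okB N m 3 &&
      N * (25 * k * h * m + 4 * g * h * m + 36 * g * k * m + 9 * g * k * h) == 57600 * (g * k * h * m))

/-- The search in the case of one common constituent. -/
def search1G (g : ℤ) : Bool :=
  (cls (-1102) 276).all fun k =>
    let l := 1 - g - k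
    let P := g * k * l
    let T := g * k * l - 25 * k * l - 4 * g * l - 4 * g * k
    !(ordB P T && okB (86400 * P / T) g 5 && okB (86400 * P / T) k 2 &&
        okB (86400 * P / T) l 2) ||
      (decide ((86400 * P / T) ≤ 5697 * 5697) && search1 (86400 * P / T) g k)

theorem all_cls_split {b b' : ℤ} {m n k : ℕ} {f : ℤ → Bool} (hb : b + 8 * (m : ℤ) = b') (hk : m + n = k)
    (h1 : (cls b m).all f = true) (h2 : (cls b' n).all f = true) : (cls b k).all f = true := by
  subst hb hk
  rw [List.all_eq_true] at *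
  intro x hx
  simp only [cls, List.mem_map, List.mem_range] at hx
  obtain ⟨i, hi, rfl⟩ := hx
  rcases Nat.lt_or_ge i m with h | h
  · exact h1 _ (List.mem_map.2 ⟨i, List.mem_range.2 h, rfl⟩)
  · refine h2 _ (List.mem_map.2 ⟨i - m, List.mem_range.2 (by omega), ?_⟩)
    rw [Nat.cast_sub h]
    ring

end Cfsg.Agent.Coprime.J1
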