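import Cfsg.Agent.Coprime.J1.ArithDefs

/-! Kernel search in six pieces. -/

set_option autoImplicit false
set_option Elab.async false

namespace Cfsg.Agent.Coprime.J1

theorem search2G_0 : (cls (-1099) 46).all search2G = true := by decide +kernel
theorem search2G_1 : (cls (-731) 46).all search2G = true := by decide +kernel
theorem search2G_2 : (cls (-363) 46).all search2G = true := by decide +kernel
theorem search2G_3 : (cls (5) 46).all search2G = true := by decide +kernel
theorem search2G_4 : (cls (373) 46).all search2G = true := by decide +kernel
theorem search2G_5 : (cls (741) 46).all search2G = true := by decide +kernel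

theorem search2G_eq : (cls (-1099) 276).all search2G = true :=
  all_cls_split (m := 46) (n := 230) (b' := (-731)) (by norm_num) (by norm_num) search2G_0
    (all_cls_split (m := 46) (n := 184) (b' := (-363)) (by norm_num) (by norm_num) search2G_1
    (all_cls_split (m := 46) (n := 138) (b' := (5)) (by norm_num) (by norm_num) search2G_2
    (all_cls_split (m := 46) (n := 92) (b' := (373)) (by norm_num) (by norm_num) search2G_3
    (all_cls_split (m := 46) (n := 46) (b' := (741)) (by norm_num) (by norm_num) search2G_4
    (search2G_5)))))

end Cfsg.Agent.Coprime.J1
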