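import Mathlib.Algebra.BigOperators.Field
import Mathlib.Data.Fintype.BigOperators
import Mathlib.Algebra.Order.BigOperators.Group.Finset
import Mathlib.Tactic.Abel
import Mathlib.Data.Complex.Basic
import Mathlib.Tactic.Ring
import Mathlib.Tactic.Linarith

/-!
# The shape of the four integer vectors
-/

namespace Cfsg.Agent.Coprime.J1

open Finset

variable {ι : Type*} [Fintype ι] [DecidableEq ι]

/-- The support of an integer vector. -/
def suppF (x : ι → ℤ) : Finset ι := univ.filter fun i => x i ≠ 0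

omit [DecidableEq ι] in
theorem mem_suppF {x : ι → ℤ} {i : ι} : i ∈ suppF x ↔ x i ≠ 0 := by simp [suppF]

theorem sum_suppF {K : Type*} [Ring K] (x : ι → ℤ) (f : ι → K) :
    ∑ i, (x i : K) * f i = ∑ i ∈ suppF x, (x i : K) * f i :=
  (sum_subset (subset_univ _) fun i _ hi => by
    rw [mem_suppF, not_not] at hi
    simp [hi]).symm

/-- A vector with coefficients `± 1`. -/
def Unitary' (x : ι → ℤ) : Prop := ∀ i, x i ≠ 0 → x i = 1 ∨ x i = -1

theorem unit_of_norm {x : ι → ℤ} {d : ι → ℕ} (hd : ∀ i, 0 < d i) {k : ℤ} (hk : k ≤ 4)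
    (hn : ∑ i, x i * x i = k) (hz : ∑ i, x i * (d i : ℤ) = 0) : Unitary' x := by
  intro i hi
  by_contra hc
  have h4 : 4 ≤ x i * x i := by
    rcases (by omega : 2 ≤ x i ∨ x i ≤ -2) with h | h <;> nlinarith
  have hs : ∑ j ∈ univ.erase i, x j * x j = 0 := by
    have h1 : 0 ≤ ∑ j ∈ univ.erase i, x j * x j := sum_nonneg fun j _ => mul_self_nonneg _
    have h2 := add_sum_erase univ (fun j => x j * x j) (mem_univ i)
    omega
  have h0 := (sum_eq_zero_iff_of_nonneg fun j _ => mul_self_nonneg (x j)).1 hs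
  rw [sum_eq_single i (fun j _ hj => by
    rw [mul_self_eq_zero.1 (h0 j (mem_erase.2 ⟨hj, mem_univ j⟩)), zero_mul]) (by simp)] at hz
  rcases mul_eq_zero.1 hz with h | h
  · exact hi h
  · have := hd i; omega

omit [DecidableEq ι] in
theorem card_suppF {x : ι → ℤ} (hx : Unitary' x) : ((suppF x).card : ℤ) = ∑ i, x i * x i := by
  have : ∀ i, x i * x i = if x i ≠ 0 then 1 else 0 := by
    intro i
    by_cases h : x i = 0
    · simp [h]
    · rcases hx i h with h' | h' <;> simp [h']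
  simp only [this, ← sum_filter, sum_const, nsmul_eq_mul, mul_one, suppF]

/-- Two vectors with inner product two. -/
theorem agree {x y : ι → ℤ} (hx : Unitary' x) (hy : Unitary' y) (h : ∑ i, x i * y i = 2)
    (h4 : (suppF x ∩ suppF y).card ≤ 4) :
    ((suppF x ∩ suppF y).card = 2 ∧ ∀ i ∈ suppF x ∩ suppF y, x i = y i) ∨
    ((suppF x ∩ suppF y).card = 4 ∧ ∃ i ∈ suppF x ∩ suppF y, x i ≠ y i ∧
      ∀ j ∈ suppF x ∩ suppF y, j ≠ i → x j = y j) := by
  set T := suppF x ∩ suppF y with hT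
  have hsub : ∑ i ∈ T, x i * y i = 2 := by
    rw [← h]
    refine sum_subset (subset_univ _) fun i _ hi => ?_
    simp only [hT, mem_inter, mem_suppF, not_and_or, not_not] at hi
    rcases hi with hi | hi <;> simp [hi]
  have hval : ∀ i ∈ T, x i * y i = 1 - 2 * (if x i ≠ y i then 1 else 0) := by
    intro i hi
    simp only [hT, mem_inter, mem_suppF] at hi
    rcases hx i hi.1 with h1 | h1 <;> rcases hy i hi.2 with h2 | h2 <;> simp [h1, h2]
  rw [sum_congr rfl hval, sum_sub_distrib, ← mul_sum, ← sum_filter, sum_const, sum_const] at hsub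
  simp only [nsmul_eq_mul, mul_one] at hsub
  rcases Nat.eq_zero_or_pos (T.filter fun i => x i ≠ y i).card with h0 | h0
  · refine Or.inl ⟨by omega, fun i hi => ?_⟩
    by_contra hne
    have : i ∈ T.filter fun i => x i ≠ y i := mem_filter.2 ⟨hi, hne⟩
    rw [card_eq_zero.1 h0] at this
    exact absurd this (notMem_empty i)
  · have h1 : (T.filter fun i => x i ≠ y i).card = 1 := by omega
    obtain ⟨i, hi⟩ := card_eq_one.1 h1
    have hi' : i ∈ T ∧ x i ≠ y i := mem_filter.1 (hi ▸ mem_singleton_self i)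
    refine Or.inr ⟨by omega, i, hi'.1, hi'.2, fun j hj hne => ?_⟩
    by_contra hn
    exact hne (mem_singleton.1 (hi ▸ mem_filter.2 ⟨hj, hn⟩))

/-- The data read off from the inner products. -/
structure Vectors (ι : Type*) [Fintype ι] where
  a : ι → ℤ
  b : ι → ℤ
  e : ι → ℤ
  c : ι → ℤ
  d : ι → ℕ
  o : ι
  dpos : ∀ i, 0 < d i
  do1 : d o = 1
  ao : a o = 0
  bo : b o = 0
  eo : e o = -1
  co : c o = 0
  naa : ∑ i, a i * a i = 4
  nbb : ∑ i, b i * b i = 4
  nee : ∑ i, e i * e i = 4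
  ncc : ∑ i, c i * c i = 2
  nab : ∑ i, a i * b i = 2
  nae : ∑ i, a i * e i = 2
  nbe : ∑ i, b i * e i = 2
  nac : ∑ i, a i * c i = 0
  nbc : ∑ i, b i * c i = 0
  nec : ∑ i, e i * c i = 0
  da : ∑ i, a i * (d i : ℤ) = 0
  db : ∑ i, b i * (d i : ℤ) = 0
  de : ∑ i, e i * (d i : ℤ) = 0
  dc : ∑ i, c i * (d i : ℤ) = 0

namespace Vectors

variable (V : Vectors ι)

/-- Exchange of the first two vectors. -/
def swap : Vectors ι where
  a := V.b
  b := V.a
  e := V.e
  c := V.c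
  d := V.d
  o := V.o
  dpos := V.dpos
  do1 := V.do1
  ao := V.bo
  bo := V.ao
  eo := V.eo
  co := V.co
  naa := V.nbb
  nbb := V.naa
  nee := V.nee
  ncc := V.ncc
  nab := by simpa only [mul_comm] using V.nab
  nae := V.nbe
  nbe := V.nae
  nac := V.nbc
  nbc := V.nac
  nec := V.nec
  da := V.db
  db := V.da
  de := V.de
  dc := V.dc

/-- The value at the involution. -/
def w (i : ι) : ℤ := 3 * V.a i + 3 * V.b i - V.e i + 4 * V.c i

theorem ua : Unitary' V.a := unit_of_norm V.dpos le_rfl V.naa V.da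
theorem ub : Unitary' V.b := unit_of_norm V.dpos le_rfl V.nbb V.db
theorem ue : Unitary' V.e := unit_of_norm V.dpos le_rfl V.nee V.de
theorem uc : Unitary' V.c := unit_of_norm V.dpos (by norm_num) V.ncc V.dc

theorem card_a : (suppF V.a).card = 4 := by
  exact_mod_cast (card_suppF V.ua).trans V.naa

theorem card_e : ((suppF V.e).erase V.o).card = 3 := by
  have h : ((suppF V.e).card : ℤ) = 4 := (card_suppF V.ue).trans V.nee
  rw [card_erase_of_mem (mem_suppF.2 (by rw [V.eo]; norm_num))]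
  omega

theorem inter_ae : (suppF V.a ∩ suppF V.e).card = 2 ∧ ∀ i ∈ suppF V.a ∩ suppF V.e, V.a i = V.e i := by
  have hle : (suppF V.a ∩ suppF V.e).card ≤ 3 := by
    rw [← V.card_e]
    refine card_le_card fun i hi => ?_
    rw [mem_inter] at hi
    refine mem_erase.2 ⟨?_, hi.2⟩
    rintro rfl
    exact mem_suppF.1 hi.1 V.ao
  rcases agree V.ua V.ue V.nae (by omega) with h | ⟨h, -⟩
  · exact h
  · omega

theorem inter_ab : (suppF V.a ∩ suppF V.b).card = 2 ∧ ∀ i ∈ suppF V.a ∩ suppF V.b, V.a i = V.b i := by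
  have hle : (suppF V.a ∩ suppF V.b).card ≤ 4 := V.card_a ▸ card_le_card inter_subset_left
  rcases agree V.ua V.ub V.nab hle with h | ⟨h, i, hi, hne, hrest⟩
  · exact h
  · exfalso
    have hA : suppF V.a ∩ suppF V.b = suppF V.a :=
      eq_of_subset_of_card_le inter_subset_left (by rw [V.card_a, h])
    have hB : suppF V.a ∩ suppF V.b = suppF V.b :=
      eq_of_subset_of_card_le inter_subset_right
        (by rw [h]; exact_mod_cast ((card_suppF V.ub).trans V.nbb).le)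
    have hz : ∑ j, (V.a j - V.b j) * (V.d j : ℤ) = 0 := by
      simp only [sub_mul, sum_sub_distrib, V.da, V.db, sub_self]
    rw [sum_eq_single i (fun j _ hj => ?_) (by simp)] at hz
    · rcases mul_eq_zero.1 hz with h' | h'
      · omega
      · have := V.dpos i; omega
    · by_cases hj' : j ∈ suppF V.a ∩ suppF V.b
      · rw [hrest j hj' hj, sub_self, zero_mul]
      · have h1 : V.a j = 0 := by
          rw [hA] at hj'; simpa [mem_suppF] using hj'
        have h2 : V.b j = 0 := by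
          rw [hB] at hj'; simpa [mem_suppF] using hj'
        rw [h1, h2, sub_self, zero_mul]

/-- A constituent of the fourth vector has a partner of the same degree and pattern. -/
theorem partner {i : ι} (hi : V.c i ≠ 0) :
    ∃ j, j ≠ i ∧ suppF V.c = {i, j} ∧ V.c j = -V.c i ∧ V.d j = V.d i ∧
      V.a j = V.a i ∧ V.b j = V.b i ∧ V.e j = V.e i := by
  have h2 : (suppF V.c).card = 2 := by exact_mod_cast (card_suppF V.uc).trans V.ncc
  have h1 : ((suppF V.c).erase i).card = 1 := by rw [card_erase_of_mem (mem_suppF.2 hi), h2]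
  obtain ⟨j, hj⟩ := card_eq_one.1 h1
  obtain ⟨hji, hjs⟩ := mem_erase.1 (hj ▸ mem_singleton_self j)
  have hS : suppF V.c = {i, j} := by
    rw [← insert_erase (mem_suppF.2 hi), hj]
  have key : ∀ x : ι → ℤ, ∑ k, V.c k * x k = 0 → V.c i * x i + V.c j * x j = 0 := by
    intro x hx
    have hs := sum_suppF (K := ℤ) V.c x
    simp only [Int.cast_id] at hs
    rw [hx, hS, sum_pair (Ne.symm hji)] at hs
    exact hs.symm
  have hd := key (fun k => (V.d k : ℤ)) V.dc
  have ha := key V.a (by simpa only [mul_comm] using V.nac)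
  have hb := key V.b (by simpa only [mul_comm] using V.nbc)
  have he := key V.e (by simpa only [mul_comm] using V.nec)
  have := V.dpos i
  have := V.dpos j
  refine ⟨j, hji, hS, ?_⟩
  rcases V.uc i hi with ci | ci <;> rcases V.uc j (mem_suppF.1 hjs) with cj | cj <;>
    simp only [ci, cj, one_mul, neg_mul] at hd ha hb he <;> refine ⟨?_, ?_, ?_, ?_, ?_⟩ <;> omega

/-- Two common constituents of the first three vectors. -/
theorem shape2 (h : suppF V.a ∩ suppF V.e = suppF V.b ∩ suppF V.e) :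
    ∃ p q r : ι, p ≠ q ∧ V.a p = V.e p ∧ V.b p = V.e p ∧ V.e p ≠ 0 ∧
      V.a q = V.e q ∧ V.b q = V.e q ∧ V.e q ≠ 0 ∧
      V.a r = 0 ∧ V.b r = 0 ∧ V.c r = 0 ∧ V.e r ≠ 0 ∧
      (suppF V.e).erase V.o = {p, q, r} ∧ r ≠ p ∧ r ≠ q ∧
      suppF V.a ∩ suppF V.b = {p, q} ∧ suppF V.a ∩ suppF V.e = {p, q} := by
  obtain ⟨hc2, hag⟩ := V.inter_ae
  obtain ⟨-, hbg⟩ := V.swap.inter_ae
  obtain ⟨p, q, hpq, hT⟩ := card_eq_two.1 hc2
  have hp : p ∈ suppF V.a ∩ suppF V.e := by simp [hT]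
  have hq : q ∈ suppF V.a ∩ suppF V.e := by simp [hT]
  have hp' : p ∈ suppF V.b ∩ suppF V.e := h ▸ hp
  have hq' : q ∈ suppF V.b ∩ suppF V.e := h ▸ hq
  have hsub : ({p, q} : Finset ι) ⊆ (suppF V.e).erase V.o := by
    intro i hi
    rw [← hT, mem_inter] at hi
    refine mem_erase.2 ⟨?_, hi.2⟩
    rintro rfl
    exact mem_suppF.1 hi.1 V.ao
  have h1 : (((suppF V.e).erase V.o) \ {p, q}).card = 1 := by
    rw [card_sdiff_of_subset hsub, V.card_e, card_pair hpq]
  obtain ⟨r, hr⟩ := card_eq_one.1 h1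
  have hr' : r ∈ ((suppF V.e).erase V.o) \ {p, q} := hr ▸ mem_singleton_self r
  obtain ⟨hrE, hrn⟩ := mem_sdiff.1 hr'
  obtain ⟨hro, hre⟩ := mem_erase.1 hrE
  have hE : (suppF V.e).erase V.o = {p, q, r} := by
    rw [← sdiff_union_of_subset hsub, hr]
    ext; simp only [mem_union, mem_singleton, mem_insert]; tauto
  have har : V.a r = 0 := by
    by_contra hn
    exact hrn (hT ▸ mem_inter.2 ⟨mem_suppF.2 hn, hre⟩)
  have hbr : V.b r = 0 := by
    by_contra hn
    exact hrn (hT ▸ h ▸ mem_inter.2 ⟨mem_suppF.2 hn, hre⟩)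
  have hcr : V.c r = 0 := by
    by_contra hn
    obtain ⟨j, hjr, -, hjc, -, hja, -, hje⟩ := V.partner hn
    have hjE : j ∈ (suppF V.e).erase V.o := by
      refine mem_erase.2 ⟨?_, mem_suppF.2 (hje ▸ mem_suppF.1 hre)⟩
      rintro rfl
      rw [V.co, eq_comm, neg_eq_zero] at hjc
      exact hn hjc
    rw [hE] at hjE
    simp only [mem_insert, mem_singleton] at hjE
    rw [har] at hja
    rcases hjE with rfl | rfl | rfl
    · exact mem_suppF.1 (mem_inter.1 hp).1 hja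
    · exact mem_suppF.1 (mem_inter.1 hq).1 hja
    · exact hjr rfl
  have hab : suppF V.a ∩ suppF V.b = {p, q} := by
    refine (eq_of_subset_of_card_le (fun i hi => ?_) (by rw [V.inter_ab.1, card_pair hpq])).symm
    simp only [mem_insert, mem_singleton] at hi
    rcases hi with rfl | rfl
    · exact mem_inter.2 ⟨(mem_inter.1 hp).1, (mem_inter.1 hp').1⟩
    · exact mem_inter.2 ⟨(mem_inter.1 hq).1, (mem_inter.1 hq').1⟩
  exact ⟨p, q, r, hpq, hag p hp, hbg p hp', mem_suppF.1 (mem_inter.1 hp).2, hag q hq, hbg q hq',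
    mem_suppF.1 (mem_inter.1 hq).2, har, hbr, hcr, mem_suppF.1 hre, hE, by aesop, by aesop,
    hab, hT⟩

theorem sum_e {K : Type*} [Ring K] {p q r : ι} (hE : (suppF V.e).erase V.o = {p, q, r})
    (hpq : p ≠ q) (hrp : r ≠ p) (hrq : r ≠ q) (f : ι → K) :
    ∑ i, (V.e i : K) * f i =
      -f V.o + (V.e p : K) * f p + (V.e q : K) * f q + (V.e r : K) * f r := by
  rw [sum_suppF, ← add_sum_erase _ _ (mem_suppF.2 (by rw [V.eo]; norm_num) : V.o ∈ suppF V.e), hE,
    sum_insert (by simp [hpq, Ne.symm hrp]), sum_pair (Ne.symm hrq), V.eo]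
  push_cast
  rw [neg_one_mul]
  abel

theorem sum_a {K : Type*} [Ring K] {p q m n : ι} (hA : suppF V.a \ {p, q} = {m, n})
    (hsub : ({p, q} : Finset ι) ⊆ suppF V.a) (hpq : p ≠ q) (hmn : m ≠ n) (f : ι → K) :
    ∑ i, (V.a i : K) * f i =
      (V.a p : K) * f p + (V.a q : K) * f q + (V.a m : K) * f m + (V.a n : K) * f n := by
  rw [sum_suppF, ← sum_sdiff hsub, hA, sum_pair hpq, sum_pair hmn]
  abel

/-- The private constituents of the first vector, two common constituents. -/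
theorem privateA {p q : ι} (hpq : p ≠ q) (hab : suppF V.a ∩ suppF V.b = {p, q})
    (hae : suppF V.a ∩ suppF V.e = {p, q}) :
    ∃ m n : ι, m ≠ n ∧ suppF V.a \ {p, q} = {m, n} ∧
      (∀ i ∈ ({m, n} : Finset ι), V.a i ≠ 0 ∧ V.b i = 0 ∧ V.e i = 0) := by
  have hsub : ({p, q} : Finset ι) ⊆ suppF V.a := hab ▸ inter_subset_left
  have h2 : (suppF V.a \ {p, q}).card = 2 := by
    rw [card_sdiff_of_subset hsub, V.card_a, card_pair hpq]
  obtain ⟨m, n, hmn, hA⟩ := card_eq_two.1 h2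
  refine ⟨m, n, hmn, hA, fun i hi => ?_⟩
  rw [← hA, mem_sdiff] at hi
  refine ⟨mem_suppF.1 hi.1, ?_, ?_⟩
  · by_contra hn
    exact hi.2 (hab ▸ mem_inter.2 ⟨hi.1, mem_suppF.2 hn⟩)
  · by_contra hn
    exact hi.2 (hae ▸ mem_inter.2 ⟨hi.1, mem_suppF.2 hn⟩)

/-- One common constituent of the first three vectors. -/
theorem shape1 (h : suppF V.a ∩ suppF V.e ≠ suppF V.b ∩ suppF V.e) :
    ∃ p k l x m : ι, p ≠ k ∧ l ≠ p ∧ l ≠ k ∧ x ≠ m ∧
      (V.a p = V.e p ∧ V.b p = V.e p ∧ V.c p = 0 ∧ V.e p ≠ 0) ∧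
      (V.a k = V.e k ∧ V.b k = 0 ∧ V.c k = 0 ∧ V.e k ≠ 0) ∧
      (V.a l = 0 ∧ V.b l = V.e l ∧ V.c l = 0 ∧ V.e l ≠ 0) ∧
      (V.b x = V.a x ∧ V.e x = 0 ∧ V.c x = 0 ∧ V.a x ≠ 0) ∧
      (V.b m = 0 ∧ V.e m = 0 ∧ V.c m = 0 ∧ V.a m ≠ 0) ∧
      (suppF V.e).erase V.o = {p, k, l} ∧
      suppF V.a \ {p, k} = {x, m} ∧ ({p, k} : Finset ι) ⊆ suppF V.a := by
  obtain ⟨hA2, hag⟩ := V.inter_ae
  obtain ⟨hB2, hbg⟩ := V.swap.inter_ae
  obtain ⟨hAB2, habg⟩ := V.inter_ab
  set P := suppF V.a ∩ suppF V.e with hP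
  set Q := suppF V.b ∩ suppF V.e with hQ
  change Q.card = 2 at hB2
  have hsubE : P ∪ Q ⊆ (suppF V.e).erase V.o := by
    intro i hi
    simp only [hP, hQ, mem_union, mem_inter] at hi
    refine mem_erase.2 ⟨?_, hi.elim And.right And.right⟩
    rintro rfl
    rcases hi with hi | hi
    · exact mem_suppF.1 hi.1 V.ao
    · exact mem_suppF.1 hi.1 V.bo
  have hle := card_le_card hsubE
  rw [V.card_e] at hle
  have hI : (P ∩ Q).card = 1 := by
    have h1 := card_union_add_card_inter P Q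
    have h2 : (P ∩ Q).card ≠ 2 := fun h2 => h (by
      have e1 : P ∩ Q = P := eq_of_subset_of_card_le inter_subset_left (by omega)
      have e2 : P ∩ Q = Q := eq_of_subset_of_card_le inter_subset_right (by omega)
      exact e1.symm.trans e2)
    have h3 : (P ∩ Q).card ≤ 2 := hA2 ▸ card_le_card inter_subset_left
    omega
  obtain ⟨p, hp⟩ := card_eq_one.1 hI
  have hp' : p ∈ P ∧ p ∈ Q := mem_inter.1 (hp ▸ mem_singleton_self p)
  have hPk : (P.erase p).card = 1 := by rw [card_erase_of_mem hp'.1, hA2]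
  obtain ⟨k, hk⟩ := card_eq_one.1 hPk
  have hQl : (Q.erase p).card = 1 := by rw [card_erase_of_mem hp'.2, hB2]
  obtain ⟨l, hl⟩ := card_eq_one.1 hQl
  obtain ⟨hkp, hkP⟩ := mem_erase.1 (hk ▸ mem_singleton_self k)
  obtain ⟨hlp, hlQ⟩ := mem_erase.1 (hl ▸ mem_singleton_self l)
  have hkQ : k ∉ Q := fun hn => hkp (mem_singleton.1 (hp ▸ mem_inter.2 ⟨hkP, hn⟩))
  have hlP : l ∉ P := fun hn => hlp (mem_singleton.1 (hp ▸ mem_inter.2 ⟨hn, hlQ⟩))
  have hPeq : P = {p, k} := by rw [← insert_erase hp'.1, hk]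
  have hQeq : Q = {p, l} := by rw [← insert_erase hp'.2, hl]
  have hkl : l ≠ k := fun e => hlP (e ▸ hkP)
  simp only [hP, hQ, mem_inter, mem_suppF] at hp' hkP hlQ
  have hbk : V.b k = 0 := by
    by_contra hn
    exact hkQ (mem_inter.2 ⟨mem_suppF.2 hn, mem_suppF.2 hkP.2⟩)
  have hal : V.a l = 0 := by
    by_contra hn
    exact hlP (mem_inter.2 ⟨mem_suppF.2 hn, mem_suppF.2 hlQ.2⟩)
  have hE : (suppF V.e).erase V.o = {p, k, l} := by
    refine (eq_of_subset_of_card_le (fun i hi => hsubE ?_) ?_).symm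
    · simp only [mem_insert, mem_singleton] at hi
      rw [hPeq, hQeq]
      simp only [mem_union, mem_insert, mem_singleton]
      tauto
    · rw [V.card_e, card_insert_of_notMem (by simp [Ne.symm hkp, Ne.symm hlp]), card_pair (Ne.symm hkl)]
  have hpAB : p ∈ suppF V.a ∩ suppF V.b := mem_inter.2 ⟨mem_suppF.2 hp'.1.1, mem_suppF.2 hp'.2.1⟩
  have hx1 : ((suppF V.a ∩ suppF V.b).erase p).card = 1 := by rw [card_erase_of_mem hpAB, hAB2]
  obtain ⟨x, hx⟩ := card_eq_one.1 hx1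
  obtain ⟨hxp, hxAB⟩ := mem_erase.1 (hx ▸ mem_singleton_self x)
  have hABeq : suppF V.a ∩ suppF V.b = {p, x} := by rw [← insert_erase hpAB, hx]
  have hxeq := habg x hxAB
  simp only [mem_inter, mem_suppF] at hxAB
  have hex : V.e x = 0 := by
    by_contra hn
    have h1 : x ∈ P ∩ Q := mem_inter.2 ⟨mem_inter.2 ⟨mem_suppF.2 hxAB.1, mem_suppF.2 hn⟩,
      mem_inter.2 ⟨mem_suppF.2 hxAB.2, mem_suppF.2 hn⟩⟩
    exact hxp (mem_singleton.1 (hp ▸ h1))
  have hxk : x ≠ k := fun e => hkP.2 (e ▸ hex)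
  have hsub : ({p, k, x} : Finset ι) ⊆ suppF V.a := by
    intro i hi
    simp only [mem_insert, mem_singleton] at hi
    rcases hi with rfl | rfl | rfl
    · exact mem_suppF.2 hp'.1.1
    · exact mem_suppF.2 hkP.1
    · exact mem_suppF.2 hxAB.1
  have hm1 : (suppF V.a \ {p, k, x}).card = 1 := by
    rw [card_sdiff_of_subset hsub, V.card_a,
      card_insert_of_notMem (by simp [Ne.symm hkp, Ne.symm hxp]), card_pair (Ne.symm hxk)]
  obtain ⟨m, hm⟩ := card_eq_one.1 hm1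
  obtain ⟨hmA, hmn⟩ := mem_sdiff.1 (hm ▸ mem_singleton_self m)
  simp only [mem_insert, mem_singleton, not_or] at hmn
  obtain ⟨hmp, hmk, hmx⟩ := hmn
  have hbm : V.b m = 0 := by
    by_contra hn
    have : m ∈ ({p, x} : Finset ι) := hABeq ▸ mem_inter.2 ⟨hmA, mem_suppF.2 hn⟩
    simp [hmp, hmx] at this
  have hem : V.e m = 0 := by
    by_contra hn
    have : m ∈ P := mem_inter.2 ⟨hmA, mem_suppF.2 hn⟩
    rw [hPeq] at this
    simp [hmp, hmk] at this
  rw [mem_suppF] at hmA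
  have hap : V.a p = V.e p := hag p (mem_inter.2 ⟨mem_suppF.2 hp'.1.1, mem_suppF.2 hp'.1.2⟩)
  have hbp : V.b p = V.e p := hbg p (mem_inter.2 ⟨mem_suppF.2 hp'.2.1, mem_suppF.2 hp'.2.2⟩)
  have hak : V.a k = V.e k := hag k (mem_inter.2 ⟨mem_suppF.2 hkP.1, mem_suppF.2 hkP.2⟩)
  have hbl : V.b l = V.e l := hbg l (mem_inter.2 ⟨mem_suppF.2 hlQ.1, mem_suppF.2 hlQ.2⟩)
  have hA : suppF V.a \ {p, k} = {x, m} := by
    ext i
    have hi := Finset.ext_iff.1 hm i
    simp only [mem_sdiff, mem_insert, mem_singleton, mem_suppF] at hi ⊢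
    by_cases hix : i = x
    · subst hix
      simp [hxp, hxk, hxAB.1]
    · simp only [hix, or_false, false_or] at hi ⊢
      exact hi
  have hcz : ∀ i, (∀ j, V.a j = V.a i → V.b j = V.b i → V.e j = V.e i → j = i) → V.c i = 0 := by
    intro i hi
    by_contra hn
    obtain ⟨j, hji, -, -, -, h1, h2, h3⟩ := V.partner hn
    exact hji (hi j h1 h2 h3)
  refine ⟨p, k, l, x, m, Ne.symm hkp, hlp, hkl, Ne.symm hmx,
    ⟨hap, hbp, hcz p fun j h1 h2 h3 => ?_, hp'.1.2⟩,
    ⟨hak, hbk, hcz k fun j h1 h2 h3 => ?_, hkP.2⟩,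
    ⟨hal, hbl, hcz l fun j h1 h2 h3 => ?_, hlQ.2⟩,
    ⟨hxeq.symm, hex, hcz x fun j h1 h2 h3 => ?_, hxAB.1⟩,
    ⟨hbm, hem, hcz m fun j h1 h2 h3 => ?_, hmA⟩, hE, hA,
    fun i hi => hsub (by simp only [mem_insert, mem_singleton] at hi ⊢; tauto)⟩
  · have : j ∈ P ∩ Q := by
      simp only [hP, hQ, mem_inter, mem_suppF, h1, h2, h3]
      exact ⟨hp'.1, hp'.2⟩
    exact mem_singleton.1 (hp ▸ this)
  · have hj : j ∈ P := mem_inter.2 ⟨mem_suppF.2 (h1 ▸ hkP.1), mem_suppF.2 (h3 ▸ hkP.2)⟩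
    rw [hPeq] at hj
    simp only [mem_insert, mem_singleton] at hj
    rcases hj with rfl | hj
    · exact absurd (h2.trans hbk) hp'.2.1
    · exact hj
  · have hj : j ∈ Q := mem_inter.2 ⟨mem_suppF.2 (h2 ▸ hlQ.1), mem_suppF.2 (h3 ▸ hlQ.2)⟩
    rw [hQeq] at hj
    simp only [mem_insert, mem_singleton] at hj
    rcases hj with rfl | hj
    · exact absurd (h1.trans hal) hp'.1.1
    · exact hj
  · have hj : j ∈ suppF V.a ∩ suppF V.b :=
      mem_inter.2 ⟨mem_suppF.2 (h1 ▸ hxAB.1), mem_suppF.2 (h2 ▸ hxAB.2)⟩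
    rw [hABeq] at hj
    simp only [mem_insert, mem_singleton] at hj
    rcases hj with rfl | hj
    · exact absurd (h3.trans hex) hp'.1.2
    · exact hj
  · have hj : j ∈ suppF V.a := mem_suppF.2 (h1 ▸ hmA)
    have hb : V.b j = 0 := h2.trans hbm
    have he : V.e j = 0 := h3.trans hem
    have : j ∈ suppF V.a \ {p, k} := by
      simp only [mem_sdiff, mem_insert, mem_singleton, not_or]
      exact ⟨hj, fun e => hp'.1.2 (e ▸ he), fun e => hkP.2 (e ▸ he)⟩
    rw [hA] at this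
    simp only [mem_insert, mem_singleton] at this
    rcases this with rfl | hjm
    · exact absurd hb hxAB.2
    · exact hjm

end Vectors

end Cfsg.Agent.Coprime.J1
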