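import Cfsg.Agent.Coprime.J1.Restrict
import Cfsg.Agent.Coprime.J1.Combi
import Cfsg.Agent.Coprime.J1.Arith
import Cfsg.Agent.H28.FrobDegree
import Mathlib.GroupTheory.Sylow

/-!
# The order of a simple group with an involution centralizer `2 × A₅`
-/

namespace Cfsg.Agent.Coprime.J1

open Cfsg.Agent.CharBasic Cfsg.Agent.CharInduce Subgroup

theorem unit_term {s v : ℤ} (hs : s = 1 ∨ s = -1) {d : ℕ} :
    (s : ℚ) * (((v * s : ℤ) : ℚ) ^ 2 / (d : ℚ)) = (v : ℚ) ^ 2 / ((s * d : ℤ) : ℚ) := by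
  rcases hs with rfl | rfl
  · simp
  · simp [div_neg]

namespace Setup

variable {G : Type*} [Group G] [Fintype G] (D : Setup G)

include D in
omit [Fintype G] in
theorem card_dvd : 120 ∣ Nat.card G := by
  have h := card_subgroup_dvd_card (centralizer ({D.t} : Set G))
  rwa [Nat.card_congr D.e.toEquiv, card_C₀] at h

include D in
theorem card_div_eight : (Nat.card G / 8) % 2 = 1 := by
  obtain ⟨j, hj⟩ := D.card_dvd
  rcases Nat.mod_two_eq_zero_or_one (Nat.card G / 8) with h | h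
  · exfalso
    have : Fact (Nat.Prime 2) := ⟨Nat.prime_two⟩
    have h16 : 2 ^ 4 ∣ Nat.card G := by omega
    have hP := D.sylow_card (default : Sylow 2 G)
    have hd := Sylow.pow_dvd_card_of_pow_dvd_card (default : Sylow 2 G) h16
    rw [hP] at hd
    norm_num at hd
  · exact h

/-- The four vectors. -/
noncomputable def vectors : Vectors (Cfsg.IrrCharacter G) where
  a := D.cA
  b := D.cB
  e := D.cE
  c := D.cC
  d := deg
  o := triv G
  dpos := deg_pos
  do1 := by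
    have h : ((deg (triv G) : ℕ) : ℂ) = ((1 : ℕ) : ℂ) := by
      rw [← apply_one, Nat.cast_one]; rfl
    exact_mod_cast h
  ao := D.triv_coef.1
  bo := D.triv_coef.2.1
  eo := D.triv_coef.2.2.1
  co := D.triv_coef.2.2.2
  naa := D.gram_all.1
  nbb := D.gram_all.2.1
  nee := D.gram_all.2.2.1
  ncc := D.gram_all.2.2.2.1
  nab := D.gram_all.2.2.2.2.1
  nae := D.gram_all.2.2.2.2.2.1
  nbe := D.gram_all.2.2.2.2.2.2.1
  nac := D.gram_all.2.2.2.2.2.2.2.1
  nbc := D.gram_all.2.2.2.2.2.2.2.2.1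
  nec := D.gram_all.2.2.2.2.2.2.2.2.2
  da := D.deg_sum _ D.cA_spec
  db := D.deg_sum _ D.cB_spec
  de := D.deg_sum _ D.cE_spec
  dc := D.deg_sum _ D.cC_spec

/-- Validity of a signed degree. -/
theorem ok [IsSimpleGroup G] {i : Cfsg.IrrCharacter G} (hi : i ≠ triv G) {s v : ℤ}
    (hs : s = 1 ∨ s = -1) (hv : D.val i = v * s) : Ok (Nat.card G) (s * deg i) v := by
  classical
  obtain ⟨m, hm⟩ := D.exists_congr i
  have hne := D.val_ne_deg hi
  have hpos := deg_pos i
  have hdvd : (deg i : ℤ) ∣ (Nat.card G : ℤ) :=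
    Int.natCast_dvd_natCast.2 (H83.charDegree_dvd_card i.2)
  have hlt : (deg i : ℤ) * deg i < (Nat.card G : ℤ) := by
    have h := H28.Frob.sum_sq_degree_nat G
    have h2 : ∑ φ ∈ ({triv G, i} : Finset (Cfsg.IrrCharacter G)), Cfsg.charDegree (φ : G → ℂ) ^ 2 ≤
        Nat.card G := by
      rw [← h]
      exact Finset.sum_le_sum_of_subset (Finset.subset_univ _)
    rw [Finset.sum_pair (Ne.symm hi)] at h2
    have h1 : 0 < Cfsg.charDegree ((triv G : Cfsg.IrrCharacter G) : G → ℂ) := deg_pos (triv G)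
    have h3 : deg i * deg i < Nat.card G := by
      rw [sq, sq] at h2
      have := Nat.mul_pos h1 h1
      show Cfsg.charDegree (i : G → ℂ) * Cfsg.charDegree (i : G → ℂ) < _
      omega
    exact_mod_cast h3
  rw [hv] at hm hne
  rcases hs with rfl | rfl
  · rw [one_mul]
    exact ⟨by omega, by omega, by omega, by omega, by omega, hdvd, hlt⟩
  · rw [neg_one_mul]
    exact ⟨by omega, by omega, by omega, by omega, by omega, hdvd.neg_left, by simpa using hlt⟩

theorem eqE [IsSimpleGroup G] :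
    (Nat.card G : ℚ) * ∑ χ, (D.cE χ : ℚ) * ((D.val χ : ℚ) ^ 2 / (deg χ : ℚ)) = -86400 := by
  simp only [← mul_div_assoc]
  rw [D.structure_eq proj_θe _ D.cE_spec (-720)]
  · norm_num
  · obtain ⟨h0, h1, h2, h3⟩ := invPairs_rep
    simp [Fin.sum_univ_four, θe_values, h0, h1, h2, h3, size]
    norm_num

theorem eqA [IsSimpleGroup G] :
    (Nat.card G : ℚ) * ∑ χ, (D.cA χ : ℚ) * ((D.val χ : ℚ) ^ 2 / (deg χ : ℚ)) = 57600 := by
  simp only [← mul_div_assoc]
  rw [D.structure_eq proj_θa _ D.cA_spec 480]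
  · norm_num
  · obtain ⟨h0, h1, h2, h3⟩ := invPairs_rep
    simp [Fin.sum_univ_four, θa_values, h0, h1, h2, h3, size]
    linear_combination 240 * α_add_β

theorem eqB [IsSimpleGroup G] :
    (Nat.card G : ℚ) * ∑ χ, (D.cB χ : ℚ) * ((D.val χ : ℚ) ^ 2 / (deg χ : ℚ)) = 57600 := by
  simp only [← mul_div_assoc]
  rw [D.structure_eq proj_θb _ D.cB_spec 480]
  · norm_num
  · obtain ⟨h0, h1, h2, h3⟩ := invPairs_rep
    simp [Fin.sum_univ_four, θb_values, h0, h1, h2, h3, size]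
    linear_combination 240 * α_add_β

/-- A vector arrangement compatible with `D`. -/
structure Compat (V : Vectors (Cfsg.IrrCharacter G)) : Prop where
  hd : V.d = deg
  ho : V.o = triv G
  he : V.e = D.cE
  hc : V.c = D.cC
  hw : ∀ i, V.w i = D.val i
  hA : (Nat.card G : ℚ) * ∑ χ, (V.a χ : ℚ) * ((D.val χ : ℚ) ^ 2 / (deg χ : ℚ)) = 57600

theorem compat_vectors [IsSimpleGroup G] : D.Compat D.vectors :=
  ⟨rfl, rfl, rfl, rfl, fun _ => rfl, D.eqA⟩

theorem compat_swap [IsSimpleGroup G] : D.Compat D.vectors.swap :=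
  ⟨rfl, rfl, rfl, rfl, fun i => by
    simp only [Vectors.w, Vectors.swap, vectors, val]; ring, D.eqB⟩

variable {D}

theorem Compat.ne_o {V : Vectors (Cfsg.IrrCharacter G)} (hV : D.Compat V) {i : Cfsg.IrrCharacter G}
    (h : V.e i = 1 ∨ V.e i = 0 ∨ V.a i ≠ 0 ∨ V.b i ≠ 0) : i ≠ triv G := by
  rintro rfl
  rw [← hV.ho, V.eo, V.ao, V.bo] at h
  omega

theorem Compat.eq_e [IsSimpleGroup G] [DecidableEq (Cfsg.IrrCharacter G)]
    {V : Vectors (Cfsg.IrrCharacter G)}
    (hV : D.Compat V) {p q r : Cfsg.IrrCharacter G} {vp vq vr : ℤ}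
    (hE : (suppF V.e).erase V.o = {p, q, r}) (hpq : p ≠ q) (hrp : r ≠ p) (hrq : r ≠ q)
    (hp : V.w p = vp * V.e p) (hq : V.w q = vq * V.e q) (hr : V.w r = vr * V.e r) :
    Ok (Nat.card G) (V.e p * V.d p) vp ∧ Ok (Nat.card G) (V.e q * V.d q) vq ∧
    Ok (Nat.card G) (V.e r * V.d r) vr ∧
    V.e p * V.d p + V.e q * V.d q + V.e r * V.d r = 1 ∧
    (Nat.card G : ℚ) * (1 - (vp : ℚ) ^ 2 / ((V.e p * V.d p : ℤ) : ℚ) -
      (vq : ℚ) ^ 2 / ((V.e q * V.d q : ℤ) : ℚ) -
      (vr : ℚ) ^ 2 / ((V.e r * V.d r : ℤ) : ℚ)) = 86400 := by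
  have hmem : ∀ i ∈ ({p, q, r} : Finset _), (V.e i = 1 ∨ V.e i = -1) ∧ i ≠ triv G := by
    intro i hi
    rw [← hE, Finset.mem_erase, mem_suppF] at hi
    exact ⟨V.ue i hi.2, hV.ho ▸ hi.1⟩
  obtain ⟨up, np⟩ := hmem p (by simp)
  obtain ⟨uq, nq⟩ := hmem q (by simp)
  obtain ⟨ur, nr⟩ := hmem r (by simp)
  rw [hV.hw] at hp hq hr
  refine ⟨hV.hd ▸ D.ok np up hp, hV.hd ▸ D.ok nq uq hq, hV.hd ▸ D.ok nr ur hr, ?_, ?_⟩
  · have h := V.sum_e hE hpq hrp hrq (fun i => (V.d i : ℤ))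
    simp only [Int.cast_id] at h
    rw [V.de, V.do1] at h
    push_cast at h
    omega
  · have h := D.eqE
    rw [← hV.he, V.sum_e hE hpq hrp hrq] at h
    have ho : D.val V.o = 1 := by
      rw [← hV.hw]
      simp [Vectors.w, V.ao, V.bo, V.co, V.eo]
    rw [hp, hq, hr, unit_term up, unit_term uq, unit_term ur, ho,
      show deg V.o = 1 from hV.hd ▸ V.do1, ← hV.hd] at h
    simp only [Int.cast_one, Nat.cast_one, one_pow, div_one] at h
    linear_combination -h

theorem Compat.eq_a [IsSimpleGroup G] [DecidableEq (Cfsg.IrrCharacter G)]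
    {V : Vectors (Cfsg.IrrCharacter G)}
    (hV : D.Compat V) {p q m n : Cfsg.IrrCharacter G} {vp vq vm vn : ℤ}
    (hA : suppF V.a \ {p, q} = {m, n}) (hsub : ({p, q} : Finset _) ⊆ suppF V.a)
    (hpq : p ≠ q) (hmn : m ≠ n)
    (hp : V.w p = vp * V.a p) (hq : V.w q = vq * V.a q) (hm : V.w m = vm * V.a m)
    (hn : V.w n = vn * V.a n) :
    Ok (Nat.card G) (V.a m * V.d m) vm ∧ Ok (Nat.card G) (V.a n * V.d n) vn ∧
    V.a p * V.d p + V.a q * V.d q + V.a m * V.d m + V.a n * V.d n = 0 ∧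
    (Nat.card G : ℚ) * ((vp : ℚ) ^ 2 / ((V.a p * V.d p : ℤ) : ℚ) +
      (vq : ℚ) ^ 2 / ((V.a q * V.d q : ℤ) : ℚ) + (vm : ℚ) ^ 2 / ((V.a m * V.d m : ℤ) : ℚ) +
      (vn : ℚ) ^ 2 / ((V.a n * V.d n : ℤ) : ℚ)) = 57600 := by
  have hmem : ∀ i ∈ suppF V.a, (V.a i = 1 ∨ V.a i = -1) ∧ i ≠ triv G := by
    intro i hi
    rw [mem_suppF] at hi
    exact ⟨V.ua i hi, hV.ne_o (Or.inr (Or.inr (Or.inl hi)))⟩
  have hmA : ∀ i ∈ ({m, n} : Finset _), i ∈ suppF V.a := fun i hi =>
    (Finset.mem_sdiff.1 (hA ▸ hi)).1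
  obtain ⟨up, -⟩ := hmem p (hsub (by simp))
  obtain ⟨uq, -⟩ := hmem q (hsub (by simp))
  obtain ⟨um, nm⟩ := hmem m (hmA m (by simp))
  obtain ⟨un, nn⟩ := hmem n (hmA n (by simp))
  rw [hV.hw] at hp hq hm hn
  refine ⟨hV.hd ▸ D.ok nm um hm, hV.hd ▸ D.ok nn un hn, ?_, ?_⟩
  · have h := V.sum_a hA hsub hpq hmn (fun i => (V.d i : ℤ))
    simp only [Int.cast_id] at h
    rw [V.da] at h
    omega
  · have h := hV.hA
    rw [V.sum_a hA hsub hpq hmn, hp, hq, hm, hn, unit_term up, unit_term uq, unit_term um,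
      unit_term un, ← hV.hd] at h
    exact h

variable (D)

/-- The exceptional solution. -/
theorem not_special [IsSimpleGroup G] [DecidableEq (Cfsg.IrrCharacter G)]
    {V : Vectors (Cfsg.IrrCharacter G)}
    (hV : D.Compat V) {p q r : Cfsg.IrrCharacter G}
    (hE : (suppF V.e).erase V.o = {p, q, r}) (hpq : p ≠ q) (hrp : r ≠ p) (hrq : r ≠ q)
    (hcp : V.c p = 0) (hcq : V.c q = 0) (hcr : V.c r = 0)
    (hwp : V.w p = 5 * V.e p) (hwq : V.w q = 5 * V.e q) (hwr : V.w r = -1 * V.e r)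
    (hg : V.e p * V.d p = 21) (hh : V.e q * V.d q = -35) (hr : V.e r * V.d r = 15) : False := by
  have hmem : ∀ i ∈ ({p, q, r} : Finset _), (V.e i = 1 ∨ V.e i = -1) ∧ 0 < V.d i := by
    intro i hi
    rw [← hE, Finset.mem_erase, mem_suppF] at hi
    exact ⟨V.ue i hi.2, V.dpos i⟩
  obtain ⟨up, dp⟩ := hmem p (by simp)
  obtain ⟨uq, dq⟩ := hmem q (by simp)
  obtain ⟨ur, dr⟩ := hmem r (by simp)
  have ep : V.e p = 1 ∧ V.d p = 21 := by rcases up with h | h <;> rw [h] at hg <;> omega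
  have eq' : V.e q = -1 ∧ V.d q = 35 := by rcases uq with h | h <;> rw [h] at hh <;> omega
  have er : V.e r = 1 ∧ V.d r = 15 := by rcases ur with h | h <;> rw [h] at hr <;> omega
  rw [hV.hw, ep.1] at hwp
  rw [hV.hw, eq'.1] at hwq
  rw [hV.hw, er.1] at hwr
  have horth := D.orth_x proj_θe _ D.cE_spec
  rw [← hV.he, V.sum_e hE hpq hrp hrq, ep.1, eq'.1, er.1, hV.ho,
    show ((triv G : Cfsg.IrrCharacter G) : G → ℂ) (D.emb (1, x₃)) = 1 from rfl] at horth
  rw [hV.hc] at hcp hcq hcr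
  rw [hV.he, hV.hd] at ep eq' er
  obtain ⟨i, hi⟩ := D.exists_sgn p
  obtain ⟨j, hj⟩ := D.exists_omega q
  obtain ⟨k, hk⟩ := D.exists_alt r
  simp only [hcp, hwp, ep.1, ep.2] at hi
  simp only [hcq, hwq, eq'.1, eq'.2] at hj
  simp only [hcr, hwr, er.1, er.2] at hk
  push_cast at hi hj hk horth
  have h : ((3 + 6 * i + 6 * j + 3 * k : ℕ) : ℂ) = ((0 : ℕ) : ℂ) := by
    push_cast
    linear_combination horth - (1 / 2 : ℂ) * hi - (1 / 4 : ℂ) * hj - (1 / 8 : ℂ) * hk
  have : 3 + 6 * i + 6 * j + 3 * k = 0 := by exact_mod_cast h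
  omega

/-- Two common constituents, the private ones free of the fourth vector. -/
theorem main2 [IsSimpleGroup G] [DecidableEq (Cfsg.IrrCharacter G)]
    {V : Vectors (Cfsg.IrrCharacter G)}
    (hV : D.Compat V) {p q r m n : Cfsg.IrrCharacter G}
    (hE : (suppF V.e).erase V.o = {p, q, r}) (hpq : p ≠ q) (hrp : r ≠ p) (hrq : r ≠ q)
    (hp : V.a p = V.e p ∧ V.b p = V.e p ∧ V.c p = 0) (hq : V.a q = V.e q ∧ V.b q = V.e q ∧ V.c q = 0)
    (hr : V.a r = 0 ∧ V.b r = 0 ∧ V.c r = 0)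
    (hA : suppF V.a \ {p, q} = {m, n}) (hsub : ({p, q} : Finset _) ⊆ suppF V.a) (hmn : m ≠ n)
    (hm : V.b m = 0 ∧ V.e m = 0 ∧ V.c m = 0) (hn : V.b n = 0 ∧ V.e n = 0 ∧ V.c n = 0) :
    Nat.card G = 175560 := by
  have wp : V.w p = 5 * V.e p := by simp only [Vectors.w, hp]; ring
  have wq : V.w q = 5 * V.e q := by simp only [Vectors.w, hq]; ring
  have wr : V.w r = -1 * V.e r := by simp only [Vectors.w, hr]; ring
  have wm : V.w m = 3 * V.a m := by simp only [Vectors.w, hm]; ring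
  have wn : V.w n = 3 * V.a n := by simp only [Vectors.w, hn]; ring
  obtain ⟨og, oh, or', hs, he⟩ := hV.eq_e hE hpq hrp hrq wp wq wr
  obtain ⟨om, on', hs2, he2⟩ := hV.eq_a hA hsub hpq hmn (vp := 5) (vq := 5)
    (by rw [wp, hp.1]) (by rw [wq, hq.1]) wm wn
  rw [hp.1, hq.1] at hs2 he2
  rcases arith2 D.card_dvd D.card_div_eight og oh or' om on' hs hs2
    (by rw [← he]; push_cast; ring) (by rw [← he2]; push_cast; ring) with h | ⟨h1, h2⟩ | ⟨h1, h2⟩
  · exact h
  · exact (D.not_special hV hE hpq hrp hrq hp.2.2 hq.2.2 hr.2.2 wp wq wr h1 h2 (by omega)).elim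
  · refine (D.not_special hV (p := q) (q := p) ?_ (Ne.symm hpq) hrq hrp hq.2.2 hp.2.2 hr.2.2
      wq wp wr h2 h1 (by omega)).elim
    rw [hE]; exact Finset.insert_comm _ _ _

/-- The order of `G`, for an abstract arrangement. -/
theorem card_eq_of_compat [IsSimpleGroup G] [DecidableEq (Cfsg.IrrCharacter G)]
    {V : Vectors (Cfsg.IrrCharacter G)} (hV : D.Compat V) (hV' : D.Compat V.swap) :
    Nat.card G = 175560 := by
  by_cases hPQ : suppF V.a ∩ suppF V.e = suppF V.b ∩ suppF V.e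
  · obtain ⟨p, q, r, hpq, hap, hbp, hep, haq, hbq, heq, har, hbr, hcr, her, hE, hrp, hrq, hab, hae⟩ :=
      V.shape2 hPQ
    have hpart : ∀ i j, i ∈ ({p, q} : Finset _) → V.a j = V.a i → V.b j = V.b i →
        j ∈ ({p, q} : Finset _) := by
      intro i j hi h1 h2
      rw [← hab, Finset.mem_inter, mem_suppF, mem_suppF] at hi ⊢
      rwa [h1, h2]
    by_cases hcp : V.c p = 0
    · have hcq : V.c q = 0 := by
        by_contra hn
        obtain ⟨j, hjq, -, hjc, -, h1, h2, -⟩ := V.partner hn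
        have := hpart q j (by simp) h1 h2
        simp only [Finset.mem_insert, Finset.mem_singleton, hjq, or_false] at this
        rw [this, hcp, eq_comm, neg_eq_zero] at hjc
        exact hn hjc
      obtain ⟨m, n, hmn, hA, hmnp⟩ := V.privateA hpq hab hae
      by_cases hfree : V.c m = 0 ∧ V.c n = 0
      · exact D.main2 hV hE hpq hrp hrq ⟨hap, hbp, hcp⟩ ⟨haq, hbq, hcq⟩ ⟨har, hbr, hcr⟩ hA
          (hab ▸ Finset.inter_subset_left) hmn ⟨(hmnp m (by simp)).2.1, (hmnp m (by simp)).2.2, hfree.1⟩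
          ⟨(hmnp n (by simp)).2.1, (hmnp n (by simp)).2.2, hfree.2⟩
      · obtain ⟨i, hi, hci⟩ : ∃ i ∈ ({m, n} : Finset _), V.c i ≠ 0 := by
          rcases not_and_or.1 hfree with h | h
          · exact ⟨m, by simp, h⟩
          · exact ⟨n, by simp, h⟩
        obtain ⟨j, -, hS, -, -, hja, -, -⟩ := V.partner hci
        have hclear : ∀ k, V.a k = 0 → V.c k = 0 := by
          intro k hk
          by_contra hn
          have : k ∈ suppF V.c := mem_suppF.2 hn
          rw [hS] at this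
          simp only [Finset.mem_insert, Finset.mem_singleton] at this
          rcases this with rfl | rfl
          · exact (hmnp k hi).1 hk
          · exact (hmnp i hi).1 (hja ▸ hk)
        have hba : suppF V.swap.a ∩ suppF V.swap.b = {p, q} := by
          rw [← hab]; exact Finset.inter_comm _ _
        have hbe : suppF V.swap.a ∩ suppF V.swap.e = {p, q} := hae ▸ hPQ.symm
        obtain ⟨m', n', hmn', hA', hp'⟩ := V.swap.privateA hpq hba hbe
        exact D.main2 hV' (m := m') (n := n') hE hpq hrp hrq ⟨hbp, hap, hcp⟩ ⟨hbq, haq, hcq⟩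
          ⟨hbr, har, hcr⟩ hA' (hba ▸ Finset.inter_subset_left) hmn'
          ⟨(hp' m' (by simp)).2.1, (hp' m' (by simp)).2.2, hclear m' (hp' m' (by simp)).2.1⟩
          ⟨(hp' n' (by simp)).2.1, (hp' n' (by simp)).2.2, hclear n' (hp' n' (by simp)).2.1⟩
    · exfalso
      obtain ⟨j, hjp, -, hjc, hjd, h1, h2, h3⟩ := V.partner hcp
      have := hpart p j (by simp) h1 h2
      simp only [Finset.mem_insert, Finset.mem_singleton, hjp, false_or] at this
      subst this
      have up := V.uc p hcp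
      have ue := V.ue p hep
      have key : ∀ u v, u ≠ v → (suppF V.e).erase V.o = {u, v, r} → r ≠ u → r ≠ v →
          V.a u = V.e u → V.b u = V.e u → V.a v = V.e v → V.b v = V.e v →
          V.c u = V.e u → V.c v = -V.e v → V.e v = V.e u → V.d v = V.d u → False := by
        intro u v huv hEuv hru hrv au bu av bv cu cv euv duv
        have wu : V.w u = 9 * V.e u := by simp only [Vectors.w, au, bu, cu]; ring
        have wv : V.w v = 1 * V.e v := by simp only [Vectors.w, av, bv, cv]; ring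
        have wr : V.w r = -1 * V.e r := by simp only [Vectors.w, har, hbr, hcr]; ring
        obtain ⟨o1, o2, o3, hs, he⟩ := hV.eq_e hEuv huv hru hrv wu wv wr
        rw [euv, duv] at o2 hs he
        refine arithC D.card_dvd D.card_div_eight o1 o2 o3 (by omega) ?_
        rw [← he]
        push_cast
        ring
      by_cases hcs : V.c p = V.e p
      · exact key p j hpq hE hrp hrq hap hbp haq hbq hcs (by rw [hjc, h3, hcs]) h3 hjd
      · refine key j p (Ne.symm hpq) (by rw [hE]; exact Finset.insert_comm _ _ _) hrq hrp haq hbq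
          hap hbp ?_ ?_ h3.symm hjd.symm
        · rw [hjc, h3]; omega
        · omega
  · exfalso
    obtain ⟨p, k, l, x, m, hpk, hlp, hlk, hxm, ⟨hap, hbp, hcp, -⟩, ⟨hak, hbk, hck, -⟩,
      ⟨hal, hbl, hcl, -⟩, ⟨hbx, hex, hcx, -⟩, ⟨hbm, hem, hcm, -⟩, hE, hA, hsub⟩ := V.shape1 hPQ
    have wp : V.w p = 5 * V.e p := by simp only [Vectors.w, hap, hbp, hcp]; ring
    have wk : V.w k = 2 * V.e k := by simp only [Vectors.w, hak, hbk, hck]; ring
    have wl : V.w l = 2 * V.e l := by simp only [Vectors.w, hal, hbl, hcl]; ring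
    have wx : V.w x = 6 * V.a x := by simp only [Vectors.w, hbx, hex, hcx]; ring
    have wm : V.w m = 3 * V.a m := by simp only [Vectors.w, hbm, hem, hcm]; ring
    obtain ⟨og, ok', ol, hs, he⟩ := hV.eq_e hE hpk hlp hlk wp wk wl
    obtain ⟨ox, om, hs2, he2⟩ := hV.eq_a hA hsub hpk hxm (vp := 5) (vq := 2)
      (by rw [wp, hap]) (by rw [wk, hak]) wx wm
    rw [hap, hak] at hs2 he2
    exact arith1 D.card_dvd D.card_div_eight og ok' ol ox om hs hs2
      (by rw [← he]; push_cast; ring) (by rw [← he2]; push_cast; ring)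

include D in
/-- The order of `G`. -/
theorem card_eq [IsSimpleGroup G] : Nat.card G = 175560 := by
  classical
  exact D.card_eq_of_compat D.compat_vectors D.compat_swap

end Setup

end Cfsg.Agent.Coprime.J1
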