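import Cfsg.Agent.Coprime.J1.Model
import Cfsg.Agent.Fusion.Basic
import Cfsg.Agent.H39.Transfer
import Mathlib.GroupTheory.GroupAction.ConjAct

/-!
# A simple group with an involution centralizer `2 × A₅` and Sylow 2-subgroups of order 8
-/

namespace Cfsg.Agent.Coprime.J1

open Subgroup

/-- Sylow subgroup of the model. -/
def S₀ : Subgroup C₀ where
  carrier := {c | c.2 * c.2 = 1 ∧ (c.2 : Equiv.Perm (Fin 5)) 4 = 4}
  one_mem' := by decide +kernel
  mul_mem' := fun {a b} ha hb => by
    have key : ∀ a b : A, a * a = 1 ∧ (a : Equiv.Perm (Fin 5)) 4 = 4 →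
        b * b = 1 ∧ (b : Equiv.Perm (Fin 5)) 4 = 4 →
        (a * b) * (a * b) = 1 ∧ ((a * b : A) : Equiv.Perm (Fin 5)) 4 = 4 := by decide +kernel
    exact key a.2 b.2 ha hb
  inv_mem' := fun {a} ha => by
    have key : ∀ a : A, a * a = 1 ∧ (a : Equiv.Perm (Fin 5)) 4 = 4 →
        a⁻¹ * a⁻¹ = 1 ∧ ((a⁻¹ : A) : Equiv.Perm (Fin 5)) 4 = 4 := by decide +kernel
    exact key a.2 ha

instance decMemS₀ (c : C₀) : Decidable (c ∈ S₀) :=
  inferInstanceAs (Decidable (c.2 * c.2 = 1 ∧ (c.2 : Equiv.Perm (Fin 5)) 4 = 4))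

/-- An involution in `S₀`. -/
def v₄ : A := ⟨Equiv.swap 0 1 * Equiv.swap 2 3, Equiv.Perm.mem_alternatingGroup.2 (by decide +kernel)⟩

theorem center_C₀ : ∀ c : C₀, (∀ g : C₀, g * c = c * g) → c = 1 ∨ c = t₀ := by decide +kernel

theorem card_S₀ : Fintype.card S₀ = 8 := by decide +kernel

theorem card_C₀ : Nat.card C₀ = 120 := by
  rw [Nat.card_eq_fintype_card]; decide +kernel

theorem S₀_sq : ∀ c : C₀, c ∈ S₀ → c * c = 1 := by decide +kernel

/-- `g` normalises `S₀`. -/
def Nrm (g : C₀) : Prop := ∀ s, s ∈ S₀ → g * s * g⁻¹ ∈ S₀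

instance decNrm (g : C₀) : Decidable (Nrm g) :=
  inferInstanceAs (Decidable (∀ s, s ∈ S₀ → g * s * g⁻¹ ∈ S₀))

/-- The classes of `(1, v₄)` and `(tu, v₄)` under the normalizer of `S₀`. -/
def Half (v c : C₀) : Prop := ∃ g : C₀, Nrm g ∧ g * v * g⁻¹ = c

instance decHalf (v c : C₀) : Decidable (Half v c) :=
  inferInstanceAs (Decidable (∃ g : C₀, Nrm g ∧ g * v * g⁻¹ = c))

theorem S₀_classes : ∀ c : C₀, c ∈ S₀ → c = 1 ∨ c = t₀ ∨
    Half (1, v₄) c ∨
    Half (tu, v₄) c := by
  decide +kernel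

theorem S₀_halves :
    (((Finset.univ : Finset C₀).filter fun c => c = t₀ ∨
        Half (1, v₄) c).card = 4) ∧
    (((Finset.univ : Finset C₀).filter fun c => c = t₀ ∨
        Half (tu, v₄) c).card = 4) := by
  decide +kernel

theorem pow15 : t₀ ^ 15 = t₀ ∧ t₀ ≠ 1 ∧ t₀ * t₀ = 1 := by decide +kernel

theorem v₄_mem : ((1 : Multiplicative (ZMod 2)), v₄) ∈ S₀ ∧ ((tu, v₄) : C₀) ∈ S₀ ∧ t₀ ∈ S₀ := by
  decide +kernel

variable {G : Type*} [Group G]

/-- The hypothesis: a simple group, an involution `t` with centralizer `2 × A₅`, and 2-part 8. -/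
structure Setup (G : Type*) [Group G] where
  t : G
  ht : orderOf t = 2
  e : ↥(centralizer ({t} : Set G)) ≃* C₀
  sylow_card : ∀ P : Sylow 2 G, Nat.card (P : Subgroup G) = 8

namespace Setup

variable (D : Setup G)

/-- The inclusion of the model. -/
def emb : C₀ →* G := (centralizer ({D.t} : Set G)).subtype.comp D.e.symm.toMonoidHom

theorem emb_injective : Function.Injective D.emb :=
  Subtype.val_injective.comp D.e.symm.injective

theorem emb_mem (c : C₀) : D.emb c ∈ centralizer ({D.t} : Set G) := (D.e.symm c).2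

theorem exists_emb {g : G} (hg : g ∈ centralizer ({D.t} : Set G)) : ∃ c, D.emb c = g :=
  ⟨D.e ⟨g, hg⟩, by simp [emb]⟩

theorem t_mem : D.t ∈ centralizer ({D.t} : Set G) := mem_centralizer_singleton_iff.2 rfl

theorem emb_t₀ : D.emb t₀ = D.t := by
  obtain ⟨c, hc⟩ := D.exists_emb D.t_mem
  rcases center_C₀ c (fun g => D.emb_injective (by
    rw [map_mul, map_mul, hc]
    exact mem_centralizer_singleton_iff.1 (D.emb_mem g))) with rfl | rfl
  · exfalso
    rw [map_one] at hc
    have := D.ht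
    rw [← hc, orderOf_one] at this
    omega
  · exact hc

theorem conj_emb (g c : C₀) : D.emb g * D.emb c * (D.emb g)⁻¹ = D.emb (g * c * g⁻¹) := by
  rw [map_mul, map_mul, map_inv]

include D in
theorem not_comm : ¬ IsMulCommutative G := by
  intro h
  have hx : ∃ a b : C₀, a * b ≠ b * a := ⟨(1, x₃), (1, v₂), by decide +kernel⟩
  obtain ⟨a, b, hab⟩ := hx
  exact hab (D.emb_injective (by rw [map_mul, map_mul]; exact h.is_comm.comm _ _))

variable [Finite G]

theorem exists_P : ∃ P : Sylow 2 G, (P : Subgroup G) = S₀.map D.emb := by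
  have hcard : Nat.card (S₀.map D.emb) = 8 := by
    rw [card_map_of_injective D.emb_injective, Nat.card_eq_fintype_card, card_S₀]
  have hp : IsPGroup 2 (S₀.map D.emb) := IsPGroup.of_card (n := 3) (by rw [hcard]; norm_num)
  obtain ⟨Q, hQ⟩ := hp.exists_le_sylow
  exact ⟨Q, (eq_of_le_of_card_ge hQ (by rw [hcard, D.sylow_card Q])).symm⟩

/-- A Sylow subgroup inside the centralizer. -/
noncomputable def P : Sylow 2 G := Classical.choose D.exists_P

theorem coe_P : (D.P : Subgroup G) = S₀.map D.emb := Classical.choose_spec D.exists_P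

theorem mem_P {g : G} : g ∈ (D.P : Subgroup G) ↔ ∃ c, c ∈ S₀ ∧ D.emb c = g := by
  rw [coe_P]; simp [Subgroup.mem_map]

theorem P_comm : IsMulCommutative (D.P : Subgroup G) := by
  refine ⟨⟨fun a b => Subtype.ext ?_⟩⟩
  have hsq : ∀ g ∈ (D.P : Subgroup G), g * g = 1 := by
    intro g hg
    obtain ⟨c, hc, rfl⟩ := D.mem_P.1 hg
    rw [← map_mul, S₀_sq c hc, map_one]
  have h1 := hsq _ a.2
  have h2 := hsq _ b.2
  have h3 := hsq _ (a * b).2
  show (a : G) * b = b * a
  rw [show (((a * b : (D.P : Subgroup G))) : G) = (a : G) * b from rfl] at h3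
  rw [← inv_eq_of_mul_eq_one_left h3, mul_inv_rev, inv_eq_of_mul_eq_one_left h1,
    inv_eq_of_mul_eq_one_left h2]

theorem emb_normalizes {g : C₀} (hg : Nrm g) :
    D.emb g ∈ normalizer ((D.P : Subgroup G) : Set G) := by
  have := Fintype.ofFinite G
  refine mem_normalizer_iff.2 fun n => ?_
  have key : ∀ n, n ∈ (D.P : Subgroup G) → D.emb g * n * (D.emb g)⁻¹ ∈ (D.P : Subgroup G) := by
    intro n hn
    obtain ⟨c, hc, rfl⟩ := D.mem_P.1 hn
    exact D.mem_P.2 ⟨_, hg c hc, by rw [conj_emb]⟩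
  have hmap : (D.P : Subgroup G).map (MulAut.conj (D.emb g)).toMonoidHom = (D.P : Subgroup G) := by
    refine eq_of_le_of_card_ge (fun y hy => ?_) ?_
    · obtain ⟨n, hn, rfl⟩ := hy
      exact key n hn
    · rw [card_map_of_injective (MulAut.conj (D.emb g)).injective]
  refine ⟨key n, fun h => ?_⟩
  rw [← hmap] at h
  obtain ⟨m, hm, he⟩ := h
  rwa [show m = n from (MulAut.conj (D.emb g)).injective he] at hm

open scoped Classical in
/-- All involutions are conjugate to `t`. -/
theorem isConj_t [IsSimpleGroup G] {u : G} (hu : orderOf u = 2) : IsConj D.t u := by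
  obtain ⟨hv1, hv2, ht0⟩ := v₄_mem
  -- conjugation inside the normalizer of `P`
  have hN : ∀ g : G, ∀ a, a ∈ S₀ → g * D.emb a * g⁻¹ ∈ (D.P : Subgroup G) →
      ∃ n ∈ normalizer ((D.P : Subgroup G) : Set G), n * D.emb a * n⁻¹ = g * D.emb a * g⁻¹ := by
    intro g a ha hg
    have hle : (D.P : Subgroup G) ≤ centralizer ((D.P : Subgroup G) : Set G) :=
      le_centralizer_iff_isMulCommutative.mpr D.P_comm
    exact Cfsg.Agent.Fusion.burnside_fusion_centralizer D.P (hle (D.mem_P.2 ⟨a, ha, rfl⟩)) (hle hg)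
  by_cases hfix : ∀ n ∈ normalizer ((D.P : Subgroup G) : Set G), n * D.t * n⁻¹ = D.t
  · -- transfer
    exfalso
    let f : G → Multiplicative (ZMod 2) := fun g =>
      if hg : g ∈ centralizer ({D.t} : Set G) then (D.e ⟨g, hg⟩).1 else 1
    have hf : ∀ c, f (D.emb c) = c.1 := fun c => by
      simp only [f, dif_pos (D.emb_mem c)]
      rw [show (⟨D.emb c, D.emb_mem c⟩ : centralizer ({D.t} : Set G)) = D.e.symm c from rfl,
        MulEquiv.apply_symm_apply]
    let φ : ↥(D.P : Subgroup G) →* Multiplicative (ZMod 2) :=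
      { toFun := fun g => f g
        map_one' := by
          show f 1 = 1
          rw [← map_one D.emb, hf]
          rfl
        map_mul' := fun a b => by
          obtain ⟨c, hc, hca⟩ := D.mem_P.1 a.2
          obtain ⟨d, hd, hdb⟩ := D.mem_P.1 b.2
          show f ((a : G) * b) = f a * f b
          rw [← hca, ← hdb, ← map_mul, hf, hf, hf]
          rfl }
    have htP : D.t ∈ (D.P : Subgroup G) := D.mem_P.2 ⟨t₀, ht0, D.emb_t₀⟩
    have key := Cfsg.Agent.H39.transfer_eq_pow_of_map_eq φ ⟨D.t, htP⟩ (fun k a h => by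
      show f (a⁻¹ * D.t ^ k * a) = f D.t ^ k
      have htk : D.t ^ k = D.emb (t₀ ^ k) := by rw [map_pow, D.emb_t₀]
      have hk0 : t₀ ^ k ∈ S₀ := pow_mem ht0 k
      obtain ⟨n, hn, hne⟩ := hN a⁻¹ (t₀ ^ k) hk0 (by rwa [← htk, inv_inv])
      rw [← htk, inv_inv, ← conj_pow, hfix n hn] at hne
      rw [← hne, htk, hf, ← D.emb_t₀, hf]
      rfl)
    have hval : φ ⟨D.t, htP⟩ = tu := by
      show f D.t = tu
      rw [← D.emb_t₀, hf]
      rfl
    rw [hval] at key
    have hodd : (D.P : Subgroup G).index % 2 = 1 := by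
      have h := Sylow.not_dvd_index' D.P (Subgroup.index_ne_zero_of_finite)
      omega
    have hpow : tu ^ (D.P : Subgroup G).index = tu := by
      conv_lhs => rw [← Nat.div_add_mod (D.P : Subgroup G).index 2, hodd]
      rw [pow_add, pow_mul, show tu ^ 2 = 1 from by decide +kernel, one_pow, one_mul, pow_one]
    rw [hpow] at key
    rcases (MonoidHom.transfer φ).normal_ker.eq_bot_or_eq_top with h | h
    · refine D.not_comm ⟨⟨fun a b => ?_⟩⟩
      exact (MonoidHom.ker_eq_bot_iff _).1 h (by rw [map_mul, map_mul, mul_comm])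
    · have : MonoidHom.transfer φ D.t = 1 := MonoidHom.mem_ker.1 (h ▸ mem_top D.t)
      rw [key] at this
      exact absurd this (by decide +kernel)
  · push Not at hfix
    obtain ⟨n, hn, hne⟩ := hfix
    -- both classes of `S₀` lie in the class of `t`
    have horb : IsConj D.t (D.emb (1, v₄)) ∧ IsConj D.t (D.emb (tu, v₄)) := by
      let K : Subgroup (ConjAct G) :=
        (normalizer ((D.P : Subgroup G) : Set G)).map ConjAct.toConjAct.toMonoidHom
      have hmemO : ∀ y, y ∈ MulAction.orbit K D.t ↔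
          ∃ m ∈ normalizer ((D.P : Subgroup G) : Set G), m * D.t * m⁻¹ = y := by
        intro y
        constructor
        · rintro ⟨⟨k, m, hm, rfl⟩, rfl⟩
          exact ⟨m, hm, by simp [Subgroup.smul_def, ConjAct.smul_def]⟩
        · rintro ⟨m, hm, rfl⟩
          exact ⟨⟨_, m, hm, rfl⟩, by simp [Subgroup.smul_def, ConjAct.smul_def]⟩
      have hconjO : ∀ y ∈ MulAction.orbit K D.t, IsConj D.t y := by
        intro y hy
        obtain ⟨m, -, hm⟩ := (hmemO y).1 hy
        exact isConj_iff.2 ⟨m, hm⟩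
      have hclosed : ∀ y ∈ MulAction.orbit K D.t, ∀ g : C₀, Nrm g →
          D.emb g * y * (D.emb g)⁻¹ ∈ MulAction.orbit K D.t := by
        intro y hy g hg
        obtain ⟨m, hm, rfl⟩ := (hmemO y).1 hy
        exact (hmemO _).2 ⟨D.emb g * m, mul_mem (D.emb_normalizes hg) hm, by group⟩
      have hsub : ∀ y ∈ MulAction.orbit K D.t, ∃ c, c ∈ S₀ ∧ D.emb c = y ∧ c ≠ 1 := by
        intro y hy
        obtain ⟨m, hm, rfl⟩ := (hmemO y).1 hy
        obtain ⟨c, hc, hce⟩ := D.mem_P.1
          ((mem_normalizer_iff.1 hm D.t).1 (D.mem_P.2 ⟨t₀, ht0, D.emb_t₀⟩))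
        refine ⟨c, hc, hce, ?_⟩
        rintro rfl
        rw [map_one] at hce
        have ho := orderOf_injective (MulAut.conj m).toMonoidHom (MulAut.conj m).injective D.t
        rw [MulEquiv.toMonoidHom_eq_coe, MonoidHom.coe_coe, MulAut.conj_apply, ← hce, orderOf_one, D.ht] at ho
        omega
      have hback : ∀ c g : C₀, Nrm g →
          (D.emb (g * c * g⁻¹) ∈ MulAction.orbit K D.t ↔ D.emb c ∈ MulAction.orbit K D.t) := by
        intro c g hg
        constructor
        · intro hh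
          obtain ⟨m, hm, hme⟩ := (hmemO _).1 hh
          refine (hmemO _).2 ⟨(D.emb g)⁻¹ * m, mul_mem (inv_mem (D.emb_normalizes hg)) hm, ?_⟩
          rw [← conj_emb] at hme
          calc (D.emb g)⁻¹ * m * D.t * ((D.emb g)⁻¹ * m)⁻¹
              = (D.emb g)⁻¹ * (m * D.t * m⁻¹) * D.emb g := by group
            _ = D.emb c := by rw [hme]; group
        · intro hh
          have h' := hclosed _ hh g hg
          rwa [conj_emb] at h'
      have hsome : D.emb (1, v₄) ∈ MulAction.orbit K D.t ∨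
          D.emb (tu, v₄) ∈ MulAction.orbit K D.t := by
        have hm : n * D.t * n⁻¹ ∈ MulAction.orbit K D.t := (hmemO _).2 ⟨n, hn, rfl⟩
        obtain ⟨c, hc, hce, hc1⟩ := hsub _ hm
        rw [← hce] at hm
        rcases S₀_classes c hc with h | h | ⟨g, hg, rfl⟩ | ⟨g, hg, rfl⟩
        · exact absurd h hc1
        · exact absurd (by rw [← hce, h, D.emb_t₀]) hne
        · exact Or.inl ((hback _ g hg).1 hm)
        · exact Or.inr ((hback _ g hg).1 hm)
      have hodd : ¬ (MulAction.orbit K D.t).ncard = 4 := by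
        intro h4
        rw [← MulAction.index_stabilizer] at h4
        have hst : ((D.P : Subgroup G).map ConjAct.toConjAct.toMonoidHom).subgroupOf K ≤
            MulAction.stabilizer K D.t := by
          rintro ⟨k, hk⟩ ⟨p, hp, rfl⟩
          refine MulAction.mem_stabilizer_iff.2 ?_
          show ConjAct.toConjAct p • D.t = D.t
          rw [ConjAct.toConjAct_smul]
          have := D.P_comm.is_comm.comm ⟨p, hp⟩ ⟨D.t, D.mem_P.2 ⟨t₀, ht0, D.emb_t₀⟩⟩
          rw [show p * D.t = D.t * p from congrArg Subtype.val this, mul_inv_cancel_right]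
        have hdvd : 4 ∣ (((D.P : Subgroup G).map ConjAct.toConjAct.toMonoidHom).subgroupOf K).index :=
          h4 ▸ index_dvd_of_le hst
        have hrel : (((D.P : Subgroup G).map ConjAct.toConjAct.toMonoidHom).subgroupOf K).index =
            (D.P : Subgroup G).relIndex (normalizer ((D.P : Subgroup G) : Set G)) := by
          show (((D.P : Subgroup G).map ConjAct.toConjAct.toMonoidHom).relIndex K) = _
          exact relIndex_map_map_of_injective _ _ ConjAct.toConjAct.injective
        rw [hrel] at hdvd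
        have h2 : ¬ 2 ∣ (D.P : Subgroup G).index := Sylow.not_dvd_index' D.P (Subgroup.index_ne_zero_of_finite)
        exact h2 ((dvd_trans (by norm_num) hdvd).trans
          (relIndex_dvd_index_of_le le_normalizer))
      by_contra hcon
      -- otherwise the orbit is `t` and one of the two halves
      have hiff : ∀ v w : C₀, (v = ((1 : Multiplicative (ZMod 2)), v₄) ∧ w = (tu, v₄)) ∨
          (w = ((1 : Multiplicative (ZMod 2)), v₄) ∧ v = (tu, v₄)) →
          D.emb v ∈ MulAction.orbit K D.t → D.emb w ∉ MulAction.orbit K D.t →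
          ((Finset.univ : Finset C₀).filter fun c => c = t₀ ∨ Half v c).card = 4 → False := by
        intro v w hvw hv hw h4
        refine hodd ?_
        refine Eq.trans ?_ h4
        rw [← Set.ncard_coe_finset, ← Set.ncard_image_of_injective _ D.emb_injective]
        refine congrArg Set.ncard (Set.ext fun y => ?_)
        simp only [Finset.coe_filter, Finset.mem_univ, true_and, Set.mem_image, Set.mem_ofPred_eq]
        constructor
        · intro hy
          obtain ⟨c, hc, hce, hc1⟩ := hsub y hy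
          refine ⟨c, ?_, hce⟩
          rcases S₀_classes c hc with h | h | ⟨g, hg, hgc⟩ | ⟨g, hg, hgc⟩
          · exact absurd h hc1
          · exact Or.inl h
          all_goals
            rcases hvw with ⟨rfl, rfl⟩ | ⟨rfl, rfl⟩
            all_goals first
              | exact Or.inr ⟨g, hg, hgc⟩
              | (exfalso; apply hw; rw [← hce, ← hgc] at hy; exact (hback _ g hg).1 hy)
        · rintro ⟨c, hc | ⟨g, hg, rfl⟩, rfl⟩
          · rw [hc, D.emb_t₀]
            exact MulAction.mem_orbit_self _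
          · exact (hback v g hg).2 hv
      rcases hsome with h | h
      · exact hiff _ (tu, v₄) (Or.inl ⟨rfl, rfl⟩) h
          (fun h' => hcon ⟨hconjO _ h, hconjO _ h'⟩) S₀_halves.1
      · exact hiff _ (1, v₄) (Or.inr ⟨rfl, rfl⟩) h
          (fun h' => hcon ⟨hconjO _ h', hconjO _ h⟩) S₀_halves.2
    -- move `u` into `P`
    have hp : IsPGroup 2 (zpowers u) := IsPGroup.of_card (n := 1) (by
      rw [Nat.card_zpowers, hu, pow_one])
    obtain ⟨Q, hQ⟩ := hp.exists_le_sylow
    obtain ⟨g, hg⟩ := MulAction.exists_smul_eq G Q D.P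
    have hu' : g * u * g⁻¹ ∈ (D.P : Subgroup G) := by
      rw [← hg, Sylow.coe_subgroup_smul]
      exact ⟨u, hQ (mem_zpowers u), rfl⟩
    refine IsConj.trans ?_ (isConj_iff.2 ⟨g⁻¹, by group⟩ : IsConj (g * u * g⁻¹) u)
    obtain ⟨c, hc, hce⟩ := D.mem_P.1 hu'
    rw [← hce]
    rcases S₀_classes c hc with rfl | rfl | ⟨k, -, rfl⟩ | ⟨k, -, rfl⟩
    · exfalso
      rw [map_one] at hce
      have ho := orderOf_injective (MulAut.conj g).toMonoidHom (MulAut.conj g).injective u
      rw [MulEquiv.toMonoidHom_eq_coe, MonoidHom.coe_coe, MulAut.conj_apply, ← hce, orderOf_one, hu] at ho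
      omega
    · rw [D.emb_t₀]
    · exact horb.1.trans (isConj_iff.2 ⟨D.emb k, D.conj_emb k _⟩)
    · exact horb.2.trans (isConj_iff.2 ⟨D.emb k, D.conj_emb k _⟩)

omit [Finite G] in
/-- Inverting elements of the section stay in the centralizer. -/
theorem mem_of_inverts {a : G} {c : C₀} (hc : InD c)
    (ha : a * D.emb c * a⁻¹ = (D.emb c)⁻¹) : a ∈ centralizer ({D.t} : Set G) := by
  have h : a * D.t * a⁻¹ = D.t := by
    rw [← D.emb_t₀, ← show c ^ 15 = t₀ from hc, map_pow, ← conj_pow, ha, inv_pow,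
      ← map_pow, show c ^ 15 = t₀ from hc, D.emb_t₀, inv_eq_of_mul_eq_one_left]
    rw [← D.emb_t₀, ← map_mul, pow15.2.2, map_one]
  exact mem_centralizer_singleton_iff.2 (mul_inv_eq_iff_eq_mul.1 h)

omit [Finite G] in
theorem mem_of_conj {x : G} {c c' : C₀} (hc : InD c) (hc' : InD c')
    (h : x * D.emb c * x⁻¹ = D.emb c') : x ∈ centralizer ({D.t} : Set G) := by
  have h' : x * D.t * x⁻¹ = D.t := by
    calc x * D.t * x⁻¹ = (x * D.emb c * x⁻¹) ^ 15 := by
          rw [conj_pow, ← map_pow, show c ^ 15 = t₀ from hc, D.emb_t₀]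
      _ = D.t := by rw [h, ← map_pow, show c' ^ 15 = t₀ from hc', D.emb_t₀]
  exact mem_centralizer_singleton_iff.2 (mul_inv_eq_iff_eq_mul.1 h')

theorem card_pairs [IsSimpleGroup G] {c : C₀} (hc : InD c) :
    Nat.card {a : G // IsConj D.t a ∧ IsConj D.t (a⁻¹ * D.emb c)} = invPairs c := by
  have hinv : ∀ a : G, IsConj D.t a → a * a = 1 ∧ a ≠ 1 := by
    intro a ha
    obtain ⟨k, rfl⟩ := isConj_iff.1 ha
    have ht := D.ht
    rw [orderOf_eq_iff (by norm_num)] at ht
    refine ⟨?_, fun h => ht.2 1 (by norm_num) one_pos ?_⟩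
    · calc k * D.t * k⁻¹ * (k * D.t * k⁻¹) = k * (D.t * D.t) * k⁻¹ := by group
        _ = 1 := by rw [← sq, ht.1]; group
    · rw [pow_one]
      exact conj_eq_one_iff.1 h
  have hconj : ∀ a : G, a * a = 1 → a ≠ 1 → IsConj D.t a := fun a h1 h2 =>
    D.isConj_t (orderOf_eq_prime (by rw [sq, h1]) h2)
  have hT : Nat.card {a : G // IsConj D.t a ∧ IsConj D.t (a⁻¹ * D.emb c)} =
      Nat.card {u : C₀ // u * u = 1 ∧ u ≠ 1 ∧ (u⁻¹ * c) * (u⁻¹ * c) = 1 ∧ u⁻¹ * c ≠ 1} := by
    let F : {u : C₀ // u * u = 1 ∧ u ≠ 1 ∧ (u⁻¹ * c) * (u⁻¹ * c) = 1 ∧ u⁻¹ * c ≠ 1} →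
        {a : G // IsConj D.t a ∧ IsConj D.t (a⁻¹ * D.emb c)} := fun u =>
      ⟨D.emb u.1, hconj _ (by rw [← map_mul, u.2.1, map_one])
          (fun h => u.2.2.1 (D.emb_injective (by rw [h, map_one]))), by
        rw [← map_inv, ← map_mul]
        exact hconj _ (by rw [← map_mul, u.2.2.2.1, map_one])
          (fun h => u.2.2.2.2 (D.emb_injective (by rw [h, map_one])))⟩
    refine (Nat.card_congr (Equiv.ofBijective F ⟨?_, ?_⟩)).symm
    · intro u v huv
      have h := congrArg (fun z => (Subtype.val z : G)) huv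
      exact Subtype.ext (D.emb_injective h)
    · rintro ⟨a, ha, hb⟩
      obtain ⟨ha1, ha2⟩ := hinv a ha
      obtain ⟨hb1, hb2⟩ := hinv _ hb
      have hinvert : a * D.emb c * a⁻¹ = (D.emb c)⁻¹ := by
        have hai : a⁻¹ = a := inv_eq_of_mul_eq_one_left ha1
        rw [hai] at hb1
        rw [hai]
        refine eq_inv_of_mul_eq_one_left ?_
        calc a * D.emb c * a * D.emb c = a * D.emb c * (a * D.emb c) := by group
          _ = 1 := hb1
      obtain ⟨u, rfl⟩ := D.exists_emb (D.mem_of_inverts hc hinvert)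
      refine ⟨⟨u, ?_, ?_, ?_, ?_⟩, rfl⟩
      · exact D.emb_injective (by rw [map_mul, ha1, map_one])
      · exact fun h => ha2 (by rw [h, map_one])
      · exact D.emb_injective (by rw [map_mul, map_mul, map_inv, hb1, map_one])
      · exact fun h => hb2 (by rw [← map_inv, ← map_mul, h, map_one])
  rw [hT, invPairs, Nat.card_eq_fintype_card, Fintype.card_subtype]

end Setup

end Cfsg.Agent.Coprime.J1
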