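import Cfsg.Agent.Coprime.J1.Theta
import Cfsg.Agent.Coprime.J1.Local
import Cfsg.Agent.H36.DegreeEq

/-!
# The characters of `G` on the 2-section of `t`
-/

namespace Cfsg.Agent.Coprime.J1

open scoped ComplexConjugate
open Cfsg.Agent.CharBasic Cfsg.Agent.CharInduce Subgroup

theorem conj_ζ : conj (ζ : ℂ) = (ζ : ℂ) ^ 4 := by
  have h5 : (ζ : ℂ) ^ 5 = 1 := by rw [← Units.val_pow_eq_pow_val, ζ_pow]; rfl
  have hn : ‖(ζ : ℂ)‖ = 1 := Complex.norm_eq_one_of_pow_eq_one h5 (by norm_num)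
  rw [← Complex.inv_eq_conj hn]
  exact inv_eq_of_mul_eq_one_right (by linear_combination h5)

theorem conj_α : conj α = α := by
  have h5 : (ζ : ℂ) ^ 5 = 1 := by rw [← Units.val_pow_eq_pow_val, ζ_pow]; rfl
  simp only [α, map_add, map_one, map_pow, conj_ζ]
  linear_combination (((ζ : ℂ) ^ 11) + (ζ : ℂ) ^ 6 + ζ) * h5

theorem conj_β : conj β = β := by
  have h := congrArg conj α_add_β
  rw [map_add, conj_α, map_one] at h
  linear_combination h - α_add_β

namespace Setup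

variable {G : Type*} [Group G] [Fintype G] (D : Setup G)

/-- The function on `G` induced from `(1 - ε) θ`. -/
noncomputable def F (θ : A → ℂ) : G → ℂ :=
  Cfsg.indFun (centralizer ({D.t} : Set G)) fun z => lift θ (D.e z)

theorem isGen_F {θ : A → ℂ} (h : Proj θ) : Cfsg.IsGeneralizedCharacter G (D.F θ) :=
  IsGen.ind _ (IsGen.comp (isGen_lift h) D.e.toMonoidHom)

theorem isClass_F {θ : A → ℂ} : Cfsg.IsClassFunction G (D.F θ) := isClassFunction_indFun _ _

theorem isClass_lift {θ : A → ℂ} (h : Proj θ) : Cfsg.IsClassFunction C₀ (lift θ) :=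
  CharInduce.IsGen.isClassFunction (isGen_lift h)

theorem F_one {θ : A → ℂ} : D.F θ 1 = 0 := by
  rw [F, indFun_one]
  simp [lift, show ¬ ((1 : Multiplicative (ZMod 2)) = tu) from by decide +kernel]

theorem F_eq_zero {θ : A → ℂ} (h : Proj θ) {g : G}
    (hg : ∀ x : G, ∀ c : C₀, InD c → x⁻¹ * g * x ≠ D.emb c) : D.F θ g = 0 := by
  rw [F, indFun_apply, Finset.sum_eq_zero, mul_zero]
  intro x _
  by_cases hx : x⁻¹ * g * x ∈ centralizer ({D.t} : Set G)
  · rw [extendByZero_of_mem _ hx]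
    refine lift_supp h _ fun hD => hg x _ hD ?_
    simp [emb]
  · exact extendByZero_of_not_mem _ hx

theorem F_emb {θ : A → ℂ} (h : Proj θ) {c : C₀} (hc : InD c) :
    D.F θ (D.emb c) = lift θ c := by
  classical
  rw [F, indFun_apply]
  have key : ∀ x : G, Cfsg.extendByZero (centralizer ({D.t} : Set G))
      (fun z => lift θ (D.e z)) (x⁻¹ * D.emb c * x) =
      if x ∈ centralizer ({D.t} : Set G) then lift θ c else 0 := by
    intro x
    by_cases hx : x ∈ centralizer ({D.t} : Set G)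
    · obtain ⟨g, rfl⟩ := D.exists_emb hx
      have he : (D.emb g)⁻¹ * D.emb c * D.emb g = D.emb (g⁻¹ * c * g) := by
        rw [map_mul, map_mul, map_inv]
      rw [if_pos hx, he, extendByZero_of_mem _ (D.emb_mem _)]
      rw [show (⟨D.emb (g⁻¹ * c * g), D.emb_mem _⟩ : centralizer ({D.t} : Set G)) =
        D.e.symm (g⁻¹ * c * g) from rfl, MulEquiv.apply_symm_apply]
      simpa using isClass_lift h c g⁻¹
    · rw [if_neg hx]
      by_cases hm : x⁻¹ * D.emb c * x ∈ centralizer ({D.t} : Set G)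
      · rw [extendByZero_of_mem _ hm]
        refine lift_supp h _ fun hD => hx ?_
        refine inv_inv x ▸ inv_mem (D.mem_of_conj (x := x⁻¹) hc hD ?_)
        rw [inv_inv]
        simp [emb]
      · exact extendByZero_of_not_mem _ hm
  rw [Finset.sum_congr rfl fun x _ => key x, ← Finset.sum_filter, Finset.sum_const,
    nsmul_eq_mul, ← mul_assoc]
  have hcard : (Finset.univ.filter fun x => x ∈ centralizer ({D.t} : Set G)).card =
      Nat.card (centralizer ({D.t} : Set G)) := by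
    rw [Nat.card_eq_fintype_card, ← Fintype.card_subtype]
  rw [hcard, inv_mul_cancel₀ (card_ne_zero_complex _), one_mul]

/-- Inner products with the induced functions. -/
theorem inner_F {θ : A → ℂ} (h : Proj θ) {ψ : G → ℂ} (hψ : Cfsg.IsClassFunction G ψ) :
    Cfsg.classInner (D.F θ) ψ = (120 : ℂ)⁻¹ * ∑ i : Fin 4,
      (size i : ℂ) * (2 * θ (oddRep i) * conj (ψ (D.emb (rep i)))) := by
  classical
  have : Fintype (centralizer ({D.t} : Set G)) := Fintype.ofFinite _
  rw [F, classInner_indFun_left _ _ _ hψ, classInner_def]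
  have hcard : Nat.card (centralizer ({D.t} : Set G)) = 120 := by
    rw [Nat.card_congr D.e.toEquiv, card_C₀]
  have hsum : ∑ z : centralizer ({D.t} : Set G), lift θ (D.e z) * conj (ψ (z : G)) =
      ∑ c : C₀, lift θ c * conj (ψ (D.emb c)) := by
    refine Fintype.sum_equiv D.e.toEquiv _ _ fun z => ?_
    simp [emb]
  rw [hcard, hsum, sum_eq]
  · simp only [lift_rep, Nat.cast_ofNat]
  · intro c g
    show lift θ (g * c * g⁻¹) * conj (ψ (D.emb (g * c * g⁻¹))) = lift θ c * conj (ψ (D.emb c))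
    rw [isClass_lift h c g, ← conj_emb, hψ]
  · intro c hc
    rw [lift_supp h c hc, zero_mul]

theorem inner_F_F {θ θ' : A → ℂ} (h : Proj θ) (h' : Proj θ') :
    Cfsg.classInner (D.F θ) (D.F θ') = (120 : ℂ)⁻¹ * ∑ i : Fin 4,
      (size i : ℂ) * (2 * θ (oddRep i) * conj (2 * θ' (oddRep i))) := by
  rw [D.inner_F h D.isClass_F]
  simp only [D.F_emb h' (rep_inD _), lift_rep]

/-- The multiplicities. -/
theorem exists_coef {θ : A → ℂ} (h : Proj θ) (χ : Cfsg.IrrCharacter G) :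
    ∃ n : ℤ, Cfsg.classInner (D.F θ) (χ : G → ℂ) = n :=
  CharInduce.IsGen.exists_int_coeff (D.isGen_F h) (IsIrr.isCharacter χ.2)

noncomputable def cA (χ : Cfsg.IrrCharacter G) : ℤ := (D.exists_coef proj_θa χ).choose
noncomputable def cB (χ : Cfsg.IrrCharacter G) : ℤ := (D.exists_coef proj_θb χ).choose
noncomputable def cE (χ : Cfsg.IrrCharacter G) : ℤ := (D.exists_coef proj_θe χ).choose
noncomputable def cC (χ : Cfsg.IrrCharacter G) : ℤ := (D.exists_coef proj_θc χ).choose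

theorem cA_spec (χ : Cfsg.IrrCharacter G) : Cfsg.classInner (D.F θa) (χ : G → ℂ) = D.cA χ :=
  (D.exists_coef proj_θa χ).choose_spec
theorem cB_spec (χ : Cfsg.IrrCharacter G) : Cfsg.classInner (D.F θb) (χ : G → ℂ) = D.cB χ :=
  (D.exists_coef proj_θb χ).choose_spec
theorem cE_spec (χ : Cfsg.IrrCharacter G) : Cfsg.classInner (D.F θe) (χ : G → ℂ) = D.cE χ :=
  (D.exists_coef proj_θe χ).choose_spec
theorem cC_spec (χ : Cfsg.IrrCharacter G) : Cfsg.classInner (D.F θc) (χ : G → ℂ) = D.cC χ :=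
  (D.exists_coef proj_θc χ).choose_spec

/-- The value at `t` in terms of the multiplicities. -/
noncomputable def val (χ : Cfsg.IrrCharacter G) : ℤ := 3 * D.cA χ + 3 * D.cB χ - D.cE χ + 4 * D.cC χ

theorem apply_t (χ : Cfsg.IrrCharacter G) : (χ : G → ℂ) D.t = D.val χ := by
  have hcl := IsIrr.isClassFunction χ.2
  have h : conj ((χ : G → ℂ) D.t) = 3 * Cfsg.classInner (D.F θa) (χ : G → ℂ) +
      3 * Cfsg.classInner (D.F θb) (χ : G → ℂ) - Cfsg.classInner (D.F θe) (χ : G → ℂ) +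
      4 * Cfsg.classInner (D.F θc) (χ : G → ℂ) := by
    rw [D.inner_F proj_θa hcl, D.inner_F proj_θb hcl, D.inner_F proj_θe hcl,
      D.inner_F proj_θc hcl]
    simp only [Fin.sum_univ_four, θa_values, θb_values, θe_values, θc_values]
    have h0 : D.emb (rep 0) = D.t := D.emb_t₀
    rw [h0]
    simp [size]
    linear_combination -(3 / 5 : ℂ) * (conj ((χ : G → ℂ) (D.emb (rep 2))) +
      conj ((χ : G → ℂ) (D.emb (rep 3)))) * α_add_β
  rw [D.cA_spec, D.cB_spec, D.cE_spec, D.cC_spec] at h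
  have h' := congrArg conj h
  rw [Complex.conj_conj] at h'
  rw [h', val]
  simp [map_ofNat]

theorem apply_tx (χ : Cfsg.IrrCharacter G) :
    (χ : G → ℂ) (D.emb (rep 1)) = ((D.cC χ - D.cE χ : ℤ) : ℂ) := by
  have hcl := IsIrr.isClassFunction χ.2
  have h : conj ((χ : G → ℂ) (D.emb (rep 1))) =
      Cfsg.classInner (D.F θc) (χ : G → ℂ) - Cfsg.classInner (D.F θe) (χ : G → ℂ) := by
    rw [D.inner_F proj_θc hcl, D.inner_F proj_θe hcl]
    simp only [Fin.sum_univ_four, θe_values, θc_values]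
    simp [size]
    ring
  rw [D.cE_spec, D.cC_spec] at h
  have h' := congrArg conj h
  rw [Complex.conj_conj] at h'
  rw [h']
  simp

open scoped Classical in
theorem gram {θ θ' : A → ℂ} (h : Proj θ) (h' : Proj θ') (a b : Cfsg.IrrCharacter G → ℤ)
    (ha : ∀ χ : Cfsg.IrrCharacter G, Cfsg.classInner (D.F θ) (χ : G → ℂ) = a χ)
    (hb : ∀ χ : Cfsg.IrrCharacter G, Cfsg.classInner (D.F θ') (χ : G → ℂ) = b χ) (k : ℤ)
    (hk : ∑ i : Fin 4, (size i : ℂ) * (2 * θ (oddRep i) * conj (2 * θ' (oddRep i))) = 120 * k) :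
    ∑ χ : Cfsg.IrrCharacter G, a χ * b χ = k := by
  have h1 := classInner_eq_sum (ψ := D.F θ') (D.isClass_F (θ := θ))
  rw [D.inner_F_F h h', hk] at h1
  simp only [ha, hb, map_intCast] at h1
  have h2 : ((∑ χ : Cfsg.IrrCharacter G, a χ * b χ : ℤ) : ℂ) = (k : ℂ) := by
    push_cast
    rw [← h1]
    ring
  exact_mod_cast h2

theorem gram_all :
    (∑ χ, D.cA χ * D.cA χ = 4) ∧ (∑ χ, D.cB χ * D.cB χ = 4) ∧ (∑ χ, D.cE χ * D.cE χ = 4) ∧
    (∑ χ, D.cC χ * D.cC χ = 2) ∧ (∑ χ, D.cA χ * D.cB χ = 2) ∧ (∑ χ, D.cA χ * D.cE χ = 2) ∧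
    (∑ χ, D.cB χ * D.cE χ = 2) ∧ (∑ χ, D.cA χ * D.cC χ = 0) ∧ (∑ χ, D.cB χ * D.cC χ = 0) ∧
    (∑ χ, D.cE χ * D.cC χ = 0) := by
  refine ⟨D.gram proj_θa proj_θa _ _ D.cA_spec D.cA_spec _ ?_,
    D.gram proj_θb proj_θb _ _ D.cB_spec D.cB_spec _ ?_,
    D.gram proj_θe proj_θe _ _ D.cE_spec D.cE_spec _ ?_,
    D.gram proj_θc proj_θc _ _ D.cC_spec D.cC_spec _ ?_,
    D.gram proj_θa proj_θb _ _ D.cA_spec D.cB_spec _ ?_,
    D.gram proj_θa proj_θe _ _ D.cA_spec D.cE_spec _ ?_,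
    D.gram proj_θb proj_θe _ _ D.cB_spec D.cE_spec _ ?_,
    D.gram proj_θa proj_θc _ _ D.cA_spec D.cC_spec _ ?_,
    D.gram proj_θb proj_θc _ _ D.cB_spec D.cC_spec _ ?_,
    D.gram proj_θe proj_θc _ _ D.cE_spec D.cC_spec _ ?_⟩
  all_goals simp [Fin.sum_univ_four, size, θa_values, θb_values, θe_values, θc_values,
    conj_α, conj_β, map_ofNat]
  all_goals first
    | done
    | (norm_num; done)
    | linear_combination 48 * (α + β + 1) * α_add_β - 96 * α_mul_β
    | linear_combination 96 * α_mul_β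
    | linear_combination (-48 : ℂ) * α_add_β

/-- The trivial character. -/
noncomputable abbrev triv (G : Type*) [Group G] [Fintype G] : Cfsg.IrrCharacter G :=
  H36.SelfCentral.triv G

theorem triv_coef : D.cA (triv G) = 0 ∧ D.cB (triv G) = 0 ∧ D.cE (triv G) = -1 ∧
    D.cC (triv G) = 0 := by
  have hcl : Cfsg.IsClassFunction G ((triv G : Cfsg.IrrCharacter G) : G → ℂ) :=
    IsIrr.isClassFunction (triv G).2
  have hone : ∀ g : G, ((triv G : Cfsg.IrrCharacter G) : G → ℂ) g = 1 := fun g => rfl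
  have h1 := D.inner_F proj_θa hcl
  have h2 := D.inner_F proj_θb hcl
  have h3 := D.inner_F proj_θe hcl
  have h4 := D.inner_F proj_θc hcl
  rw [D.cA_spec] at h1
  rw [D.cB_spec] at h2
  rw [D.cE_spec] at h3
  rw [D.cC_spec] at h4
  simp only [Fin.sum_univ_four, θa_values, θb_values, θe_values, θc_values, hone] at h1 h2 h3 h4
  simp [size] at h1 h2 h3 h4
  refine ⟨?_, ?_, ?_, ?_⟩
  · have : (D.cA (triv G) : ℂ) = ((0 : ℤ) : ℂ) := by
      rw [h1]; push_cast; linear_combination (1 / 5 : ℂ) * α_add_β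
    exact_mod_cast this
  · have : (D.cB (triv G) : ℂ) = ((0 : ℤ) : ℂ) := by
      rw [h2]; push_cast; linear_combination (1 / 5 : ℂ) * α_add_β
    exact_mod_cast this
  · have : (D.cE (triv G) : ℂ) = ((-1 : ℤ) : ℂ) := by rw [h3]; push_cast; norm_num
    exact_mod_cast this
  · have : (D.cC (triv G) : ℂ) = ((0 : ℤ) : ℂ) := by rw [h4]; push_cast; norm_num
    exact_mod_cast this

/-- Expansion of the induced functions. -/
theorem expansion {θ : A → ℂ} (a : Cfsg.IrrCharacter G → ℤ)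
    (ha : ∀ χ : Cfsg.IrrCharacter G, Cfsg.classInner (D.F θ) (χ : G → ℂ) = a χ) (g : G) :
    ∑ χ : Cfsg.IrrCharacter G, (a χ : ℂ) * (χ : G → ℂ) g = D.F θ g := by
  have h := congrFun (classFunction_expansion (D.isClass_F (θ := θ))) g
  rw [Finset.sum_apply] at h
  rw [h]
  exact Finset.sum_congr rfl fun χ _ => by rw [Pi.smul_apply, smul_eq_mul, ha]

/-- The degree. -/
noncomputable def deg (χ : Cfsg.IrrCharacter G) : ℕ := Cfsg.charDegree (χ : G → ℂ)

omit [Fintype G] in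
theorem apply_one (χ : Cfsg.IrrCharacter G) : (χ : G → ℂ) 1 = (deg χ : ℂ) :=
  (H83.charDegree_eq χ.2).1

omit [Fintype G] in
theorem deg_pos (χ : Cfsg.IrrCharacter G) : 0 < deg χ := (H83.charDegree_eq χ.2).2

theorem deg_sum {θ : A → ℂ} (a : Cfsg.IrrCharacter G → ℤ)
    (ha : ∀ χ : Cfsg.IrrCharacter G, Cfsg.classInner (D.F θ) (χ : G → ℂ) = a χ) :
    ∑ χ : Cfsg.IrrCharacter G, a χ * (deg χ : ℤ) = 0 := by
  have h := D.expansion a ha 1
  rw [D.F_one] at h
  have h2 : ((∑ χ : Cfsg.IrrCharacter G, a χ * (deg χ : ℤ) : ℤ) : ℂ) = ((0 : ℤ) : ℂ) := by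
    push_cast
    rw [← h]
    exact Finset.sum_congr rfl fun χ _ => by rw [apply_one]
  exact_mod_cast h2

/-- The class multiplication constant summed against an induced function. -/
theorem structure_eq [IsSimpleGroup G] {θ : A → ℂ} (h : Proj θ) (a : Cfsg.IrrCharacter G → ℤ)
    (ha : ∀ χ : Cfsg.IrrCharacter G, Cfsg.classInner (D.F θ) (χ : G → ℂ) = a χ) (L : ℤ)
    (hL : ∑ i : Fin 4, (size i : ℂ) * (2 * θ (oddRep i) * (invPairs (rep i) : ℂ)) = (L : ℂ)) :
    (Nat.card G : ℚ) * ∑ χ : Cfsg.IrrCharacter G,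
      (a χ : ℚ) * (D.val χ : ℚ) ^ 2 / (deg χ : ℚ) = 120 * L := by
  classical
  let N : G → ℂ := fun g =>
    (Nat.card {x : G // IsConj D.t x ∧ IsConj D.t (x⁻¹ * g)} : ℂ)
  set K : ℂ := ((centralizer ({D.t} : Set G)).index : ℂ) with hK
  have hG0 : (Nat.card G : ℂ) ≠ 0 := card_ne_zero_complex G
  have hN : ∀ g, (Nat.card G : ℂ) * N g = K * K * ∑ χ : Cfsg.IrrCharacter G,
      (D.val χ : ℂ) ^ 2 * conj ((χ : G → ℂ) g) / (deg χ : ℂ) := by
    intro g
    have h1 := H83.card_pairs_mul_card D.t D.t g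
    have h2 := congrArg conj h1
    simp only [map_mul, map_natCast, map_sum, map_div₀, D.apply_t, apply_one,
      map_intCast] at h2
    rw [h2]
    congr 1
    exact Finset.sum_congr rfl fun χ _ => by ring
  have hcl : Cfsg.IsClassFunction G N := by
    intro g x
    have e1 := hN (x * g * x⁻¹)
    have e2 : ∀ χ : Cfsg.IrrCharacter G, (χ : G → ℂ) (x * g * x⁻¹) = (χ : G → ℂ) g :=
      fun χ => IsIrr.isClassFunction χ.2 g x
    simp only [e2, ← hN] at e1
    exact mul_left_cancel₀ hG0 e1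
  have hval : Cfsg.classInner (D.F θ) N = (120 : ℂ)⁻¹ * (L : ℂ) := by
    rw [D.inner_F h hcl, ← hL]
    congr 1
    refine Finset.sum_congr rfl fun i _ => ?_
    simp only [N]
    rw [D.card_pairs (rep_inD i), map_natCast]
  have hNexp : N = ∑ χ : Cfsg.IrrCharacter G,
      (K * K * (D.val χ : ℂ) ^ 2 / ((Nat.card G : ℂ) * (deg χ : ℂ))) • (χ : G → ℂ) := by
    funext g
    have e : conj (N g) = N g := by simp [N]
    rw [← e, Finset.sum_apply]
    have := congrArg conj (hN g)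
    simp only [map_mul, map_natCast, map_sum, map_div₀, map_pow, Complex.conj_conj, map_intCast,
      hK] at this
    rw [e] at this ⊢
    rw [← mul_right_inj' hG0, this, Finset.mul_sum, Finset.mul_sum]
    refine Finset.sum_congr rfl fun χ _ => ?_
    rw [Pi.smul_apply, smul_eq_mul, hK]
    field_simp
  rw [hNexp, classInner_sum_right] at hval
  have hsum : ∀ χ : Cfsg.IrrCharacter G, Cfsg.classInner (D.F θ)
      ((K * K * (D.val χ : ℂ) ^ 2 / ((Nat.card G : ℂ) * (deg χ : ℂ))) • (χ : G → ℂ)) =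
      K * K / (Nat.card G : ℂ) * ((a χ : ℂ) * (D.val χ : ℂ) ^ 2 / (deg χ : ℂ)) := by
    intro χ
    rw [classInner_smul_right, ha]
    simp only [map_div₀, map_mul, map_pow, map_natCast, map_intCast, hK]
    ring
  rw [Finset.sum_congr rfl fun χ _ => hsum χ, ← Finset.mul_sum] at hval
  have hKG : K * 120 = (Nat.card G : ℂ) := by
    rw [hK, show (120 : ℂ) = ((Nat.card (centralizer ({D.t} : Set G))) : ℂ) from by
      rw [Nat.card_congr D.e.toEquiv, card_C₀]; norm_num]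
    exact_mod_cast index_mul_card (centralizer ({D.t} : Set G))
  have hfin : (Nat.card G : ℂ) * ∑ χ : Cfsg.IrrCharacter G,
      (a χ : ℂ) * (D.val χ : ℂ) ^ 2 / (deg χ : ℂ) = 120 * (L : ℂ) := by
    have hfac : K * K / (Nat.card G : ℂ) = (Nat.card G : ℂ) / 14400 := by
      rw [div_eq_div_iff hG0 (by norm_num), ← hKG]; ring
    rw [hfac] at hval
    linear_combination 14400 * hval
  exact_mod_cast hfin

end Setup

end Cfsg.Agent.Coprime.J1
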