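import Cfsg.Agent.CharInduce.Ops
import Cfsg.Agent.CharInduce.Induce
import Mathlib.GroupTheory.SpecificGroups.Alternating
import Mathlib.Data.ZMod.Basic
import Mathlib.RingTheory.RootsOfUnity.Complex

/-!
# The model centralizer `2 × A₅`: classes and the functions supported on the 2-section of `t`
-/

namespace Cfsg.Agent.Coprime.J1

open Equiv

abbrev A := ↥(alternatingGroup (Fin 5))

/-- The model of the centralizer. -/
abbrev C₀ := Multiplicative (ZMod 2) × A

/-- An element of order three. -/
def x₃ : A := ⟨swap 0 1 * swap 1 2, Perm.mem_alternatingGroup.2 (by decide +kernel)⟩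

/-- An element of order five. -/
def y₅ : A := ⟨swap 0 1 * swap 1 2 * swap 2 3 * swap 3 4,
  Perm.mem_alternatingGroup.2 (by decide +kernel)⟩

/-- An involution inverting `x₃`. -/
def v₂ : A := ⟨swap 0 1 * swap 3 4, Perm.mem_alternatingGroup.2 (by decide +kernel)⟩

/-- The central involution. -/
def tu : Multiplicative (ZMod 2) := Multiplicative.ofAdd 1

def t₀ : C₀ := (tu, 1)

/-- Representatives of the classes in the section of `t₀`. -/
def rep : Fin 4 → C₀ := ![(tu, 1), (tu, x₃), (tu, y₅), (tu, y₅ * y₅)]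

def size : Fin 4 → ℕ := ![1, 20, 12, 12]

/-- The section of `t₀`: elements whose 15th power is `t₀`. -/
def InD (c : C₀) : Prop := c ^ 15 = t₀

instance : DecidablePred InD := fun c => inferInstanceAs (Decidable (c ^ 15 = t₀))

theorem rep_inD : ∀ i, InD (rep i) := by decide +kernel

theorem inD_conj_rep : ∀ c : C₀, InD c → ∃ i, ∃ g : C₀, g * rep i * g⁻¹ = c := by decide +kernel

theorem t₀_comm : ∀ g : C₀, g * t₀ = t₀ * g := by decide +kernel

theorem inD_conj (g c : C₀) (hc : InD c) : InD (g * c * g⁻¹) := by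
  show (g * c * g⁻¹) ^ 15 = t₀
  rw [conj_pow, show c ^ 15 = t₀ from hc, t₀_comm g, mul_inv_cancel_right]

open scoped Classical in
/-- Sums of class functions supported on the section. -/
theorem sum_eq {F : C₀ → ℂ} (hcl : Cfsg.IsClassFunction C₀ F) (hsupp : ∀ c, ¬ InD c → F c = 0) :
    ∑ c : C₀, F c = ∑ i : Fin 4, (size i : ℂ) * F (rep i) := by
  have hdisj : ∀ i j : Fin 4, ∀ g : C₀, g * rep i * g⁻¹ = rep j → i = j := by decide +kernel
  have hsize : ∀ i : Fin 4,
      ((Finset.univ : Finset C₀).filter fun c => ∃ g : C₀, g * rep i * g⁻¹ = c).card = size i := by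
    intro i
    have : ∀ i : Fin 4,
        ((Finset.univ : Finset C₀).image fun g => g * rep i * g⁻¹).card = size i := by decide +kernel
    rw [← this i]
    refine congrArg Finset.card (Finset.ext fun c => ?_)
    simp only [Finset.mem_filter, Finset.mem_univ, true_and, Finset.mem_image]
  have hc : ∀ c : C₀, ∀ i, (∃ g : C₀, g * rep i * g⁻¹ = c) → F c = F (rep i) := by
    rintro c i ⟨g, rfl⟩
    exact hcl _ _
  calc ∑ c : C₀, F c
      = ∑ c : C₀, ∑ i : Fin 4, if (∃ g : C₀, g * rep i * g⁻¹ = c) then F (rep i) else 0 := by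
        refine Finset.sum_congr rfl fun c _ => ?_
        by_cases hD : InD c
        · obtain ⟨i, hi⟩ := inD_conj_rep c hD
          rw [Finset.sum_eq_single i]
          · rw [if_pos hi, hc c i hi]
          · intro j _ hj
            rw [if_neg]
            rintro ⟨g, hg⟩
            obtain ⟨g', hg'⟩ := hi
            refine hj (hdisj j i (g'⁻¹ * g) ?_)
            rw [← hg] at hg'
            calc g'⁻¹ * g * rep j * (g'⁻¹ * g)⁻¹ = g'⁻¹ * (g * rep j * g⁻¹) * g' := by group
              _ = g'⁻¹ * (g' * rep i * g'⁻¹) * g' := by rw [hg']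
              _ = rep i := by group
          · simp
        · rw [hsupp c hD, Finset.sum_eq_zero]
          intro i _
          rw [if_neg]
          rintro ⟨g, rfl⟩
          exact hD (inD_conj g _ (rep_inD i))
    _ = _ := by
        rw [Finset.sum_comm]
        refine Finset.sum_congr rfl fun i _ => ?_
        rw [← Finset.sum_filter, Finset.sum_const, hsize, nsmul_eq_mul]

/-- Number of involutions inverting a given element, with a non-trivial product. -/
def invPairs (c : C₀) : ℕ :=
  ((Finset.univ : Finset C₀).filter fun u =>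
    u * u = 1 ∧ u ≠ 1 ∧ (u⁻¹ * c) * (u⁻¹ * c) = 1 ∧ u⁻¹ * c ≠ 1).card

theorem invPairs_rep : invPairs (rep 0) = 30 ∧ invPairs (rep 1) = 6 ∧ invPairs (rep 2) = 10 ∧
    invPairs (rep 3) = 10 := by decide +kernel

/-- The product with the sign character of the first factor, doubled: `(1 - ε) θ`. -/
noncomputable def lift (θ : A → ℂ) : C₀ → ℂ := fun c => if c.1 = tu then 2 * θ c.2 else 0

/-- A class function on `A₅` vanishing on involutions. -/
structure Proj (θ : A → ℂ) : Prop where
  gen : Cfsg.IsGeneralizedCharacter A θ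
  inv : ∀ a : A, a * a = 1 → a ≠ 1 → θ a = 0

theorem lift_supp {θ : A → ℂ} (h : Proj θ) : ∀ c, ¬ InD c → lift θ c = 0 := by
  intro c hc
  have key : ∀ c : C₀, c.1 = tu → ¬ InD c → c.2 * c.2 = 1 ∧ c.2 ≠ 1 := by decide +kernel
  by_cases h1 : c.1 = tu
  · rw [lift, if_pos h1, h.inv c.2 (key c h1 hc).1 (key c h1 hc).2, mul_zero]
  · rw [lift, if_neg h1]

/-- The sign character of the first factor. -/
noncomputable def sgnHom : C₀ →* ℂˣ where
  toFun c := if c.1 = tu then -1 else 1
  map_one' := by rw [if_neg]; decide +kernel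
  map_mul' a b := by
    have : ∀ a b : C₀, ((a * b).1 = tu) ↔ ¬ ((a.1 = tu) ↔ (b.1 = tu)) := by decide +kernel
    have h := this a b
    split_ifs <;> simp_all

theorem isGen_lift {θ : A → ℂ} (h : Proj θ) : Cfsg.IsGeneralizedCharacter C₀ (lift θ) := by
  open Cfsg.Agent.CharInduce in
  have he : lift θ = (fun c : C₀ => (1 : ℂ) - (sgnHom c : ℂ)) * fun c => θ c.2 := by
    funext c
    simp only [lift, sgnHom, MonoidHom.coe_mk, OneHom.coe_mk, Pi.mul_apply]
    split_ifs <;> simp; norm_num
  rw [he]
  refine IsGen.mul ⟨_, _, IsChar.one, isCharacter_hom sgnHom, rfl⟩ ?_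
  exact IsGen.comp h.gen (MonoidHom.snd (Multiplicative (ZMod 2)) A)

end Cfsg.Agent.Coprime.J1
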