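import Cfsg.Agent.Coprime.J1.Chars

/-!
# Restrictions of characters to small subgroups of the centralizer
-/

namespace Cfsg.Agent.Coprime.J1

open scoped ComplexConjugate
open Cfsg.Agent.CharBasic Cfsg.Agent.CharInduce Subgroup

/-- `⟨t⟩ × Sym 3`. -/
def K6 : Finset C₀ := Finset.univ.filter fun c : C₀ =>
  ((c.2 : Equiv.Perm (Fin 5)) 3 = 3 ∧ (c.2 : Equiv.Perm (Fin 5)) 4 = 4) ∨
  ((c.2 : Equiv.Perm (Fin 5)) 3 = 4 ∧ (c.2 : Equiv.Perm (Fin 5)) 4 = 3)

/-- Its sign character. -/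
def sgn6 (c : C₀) : ℤ := if (c.2 : Equiv.Perm (Fin 5)) 3 = 3 then 1 else -1

/-- `⟨t⟩ × Alt 4`. -/
def K12 : Finset C₀ := Finset.univ.filter fun c : C₀ => (c.2 : Equiv.Perm (Fin 5)) 4 = 4

/-- The exponent of its characters of order three. -/
def exp3 (c : C₀) : ZMod 3 :=
  if c.2 * v₄ * c.2⁻¹ = v₄ then 0 else if c.2 * v₄ * c.2⁻¹ = x₃ * v₄ * x₃⁻¹ then 1 else 2

/-- `S₀` as a finite set. -/
def K8 : Finset C₀ := Finset.univ.filter fun c : C₀ => c ∈ S₀

/-- The four kinds of elements that occur. -/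
def kind (c : C₀) : Fin 4 := if c = 1 then 0 else if c * c = 1 then 1 else if c * c * c = 1 then 2 else 3

theorem K6_mul : ∀ a ∈ K6, ∀ b ∈ K6, a * b ∈ K6 ∧ sgn6 (a * b) = sgn6 a * sgn6 b := by
  decide +kernel

theorem K12_mul : ∀ a ∈ K12, ∀ b ∈ K12, a * b ∈ K12 ∧ exp3 (a * b) = exp3 a + exp3 b := by
  decide +kernel

theorem K8_mul : ∀ a ∈ K8, ∀ b ∈ K8, a * b ∈ K8 := by
  decide +kernel

theorem one_mem_K : (1 : C₀) ∈ K6 ∧ (1 : C₀) ∈ K12 ∧ (1 : C₀) ∈ K8 := by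
  decide +kernel

set_option synthInstance.maxSize 1000 in
set_option synthInstance.maxHeartbeats 200000 in
theorem kind_conj2 : ∀ c : C₀, (c ∈ K6 ∨ c ∈ K12) → c ≠ 1 → c * c ≠ 1 → c * c * c = 1 →
    ∃ g : C₀, g * ((1 : Multiplicative (ZMod 2)), x₃) * g⁻¹ = c := by
  decide +kernel

set_option synthInstance.maxSize 1000 in
set_option synthInstance.maxHeartbeats 200000 in
theorem kind_conj3 : ∀ c : C₀, (c ∈ K6 ∨ c ∈ K12) → c ≠ 1 → c * c ≠ 1 → c * c * c ≠ 1 →
    ∃ g : C₀, g * rep 1 * g⁻¹ = c := by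
  decide +kernel

namespace Setup

variable {G : Type*} [Group G] [Fintype G] (D : Setup G)

omit [Fintype G] in
/-- A weighted sum of a character over a subgroup of the centralizer. -/
theorem exists_mult (χ : Cfsg.IrrCharacter G) (K : Finset C₀) (f : C₀ → ℂ) (h1 : (1 : C₀) ∈ K)
    (hmul : ∀ a ∈ K, ∀ b ∈ K, a * b ∈ K ∧ f (a * b) = f a * f b) (hf1 : f 1 = 1) :
    ∃ m : ℕ, ∑ c ∈ K, f c * (χ : G → ℂ) (D.emb c) = (K.card : ℂ) * m := by
  classical
  have hpow : ∀ a ∈ K, ∀ n : ℕ, a ^ n ∈ K := by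
    intro a ha n
    induction n with
    | zero => simpa using h1
    | succ n ih => rw [pow_succ]; exact (hmul _ ih _ ha).1
  let H : Subgroup C₀ :=
    { carrier := (K : Set C₀)
      one_mem' := h1
      mul_mem' := fun ha hb => (hmul _ ha _ hb).1
      inv_mem' := fun {a} ha => by
        have : a⁻¹ = a ^ (orderOf a - 1) := by
          rw [inv_eq_iff_mul_eq_one, ← pow_succ', Nat.sub_add_cancel (orderOf_pos a), pow_orderOf_eq_one]
        rw [this]
        exact hpow a ha _ }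
  let l : H →* ℂˣ := MonoidHom.toHomUnits
    { toFun := fun a => f a, map_one' := hf1, map_mul' := fun a b => (hmul _ a.2 _ b.2).2 }
  have hch : Cfsg.IsCharacter H ((fun h => (l h : ℂ)) * ((χ : G → ℂ) ∘ (D.emb.comp H.subtype))) :=
    IsChar.mul (isCharacter_hom l) (IsChar.comp (IsIrr.isCharacter χ.2) _)
  obtain ⟨m, hm⟩ := classInner_isChar_nat hch (IsChar.one (G := H))
  refine ⟨m, ?_⟩
  rw [classInner_def] at hm
  have hcard : Nat.card H = K.card := by
    rw [show Nat.card H = Nat.card K from rfl, Nat.card_eq_fintype_card, Fintype.card_coe]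
  rw [hcard, inv_mul_eq_iff_eq_mul₀ (Nat.cast_ne_zero.2 (Finset.card_pos.2 ⟨1, h1⟩).ne')] at hm
  rw [← hm, ← Finset.sum_attach]
  exact Finset.sum_bij' (fun c _ => (⟨c.1, c.2⟩ : H)) (fun h _ => (⟨h.1, h.2⟩ : {x // x ∈ K}))
    (fun _ _ => Finset.mem_univ _) (fun _ _ => Finset.mem_attach _ _)
    (fun _ _ => rfl) (fun _ _ => rfl) (fun c _ => by simp [l])

/-- The values on the four kinds. -/
noncomputable def kval (χ : Cfsg.IrrCharacter G) : Fin 4 → ℂ :=
  ![(deg χ : ℂ), (D.val χ : ℂ), (χ : G → ℂ) (D.emb (1, x₃)), ((D.cC χ - D.cE χ : ℤ) : ℂ)]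

theorem apply_kind [IsSimpleGroup G] (χ : Cfsg.IrrCharacter G) {c : C₀}
    (hc : c ∈ K6 ∨ c ∈ K12) : (χ : G → ℂ) (D.emb c) = D.kval χ (kind c) := by
  have hcl := IsIrr.isClassFunction χ.2
  by_cases h1 : c = 1
  · subst h1
    simp [kind, kval, apply_one]
  by_cases h2 : c * c = 1
  · rw [show kind c = 1 by simp [kind, h1, h2]]
    show _ = (D.val χ : ℂ)
    have ho : orderOf (D.emb c) = 2 := orderOf_eq_prime (by rw [← map_pow, sq, h2, map_one])
      (fun h => h1 (D.emb_injective (by rw [h, map_one])))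
    obtain ⟨g, hg⟩ := isConj_iff.1 (D.isConj_t ho)
    rw [← hg, hcl, D.apply_t]
  by_cases h3 : c * c * c = 1
  · obtain ⟨g, hg⟩ := kind_conj2 c hc h1 h2 h3
    rw [show kind c = 2 by simp [kind, h1, h2, h3], ← hg, ← conj_emb, hcl]
    rfl
  · obtain ⟨g, hg⟩ := kind_conj3 c hc h1 h2 h3
    rw [show kind c = 3 by simp [kind, h1, h2, h3], ← hg, ← conj_emb, hcl, D.apply_tx]
    rfl

theorem sum_kind [IsSimpleGroup G] (χ : Cfsg.IrrCharacter G) (K : Finset C₀) (f : C₀ → ℂ)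
    (hK : ∀ c ∈ K, c ∈ K6 ∨ c ∈ K12) :
    ∑ c ∈ K, f c * (χ : G → ℂ) (D.emb c) =
      ∑ k : Fin 4, (∑ c ∈ K.filter (fun c => kind c = k), f c) * D.kval χ k := by
  rw [← Finset.sum_fiberwise K kind]
  refine Finset.sum_congr rfl fun k _ => ?_
  rw [Finset.sum_mul]
  refine Finset.sum_congr rfl fun c hc => ?_
  rw [Finset.mem_filter] at hc
  rw [D.apply_kind χ (hK c hc.1), hc.2]

/-- Congruence and bound for the value at `t`. -/
theorem exists_congr [IsSimpleGroup G] (χ : Cfsg.IrrCharacter G) :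
    ∃ m : ℕ, (deg χ : ℤ) + 7 * D.val χ = 8 * m := by
  obtain ⟨m, hm⟩ := D.exists_mult χ K8 (fun _ => 1) one_mem_K.2.2
    (fun a ha b hb => ⟨K8_mul a ha b hb, by simp⟩) rfl
  have hsub : ∀ c ∈ K8, c ∈ K6 ∨ c ∈ K12 := by decide +kernel
  have hcard : ∀ k : Fin 4, (K8.filter (fun c => kind c = k)).card = ![1, 7, 0, 0] k := by
    decide +kernel
  have hK : K8.card = 8 := by decide +kernel
  rw [D.sum_kind χ K8 _ hsub, hK] at hm
  simp only [Finset.sum_const, nsmul_eq_mul, mul_one, hcard, Fin.sum_univ_four] at hm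
  simp [kval] at hm
  refine ⟨m, ?_⟩
  have h2 : (((deg χ : ℤ) + 7 * D.val χ : ℤ) : ℂ) = ((8 * m : ℤ) : ℂ) := by
    push_cast
    linear_combination hm
  exact_mod_cast h2

/-- The sign character of `⟨t⟩ × Sym 3`. -/
theorem exists_sgn [IsSimpleGroup G] (χ : Cfsg.IrrCharacter G) :
    ∃ m : ℕ, (deg χ : ℂ) + (D.val χ : ℂ) - 6 * (D.val χ : ℂ) +
      2 * (χ : G → ℂ) (D.emb (1, x₃)) + 2 * ((D.cC χ - D.cE χ : ℤ) : ℂ) = 12 * (m : ℂ) := by
  obtain ⟨m, hm⟩ := D.exists_mult χ K6 (fun c => (sgn6 c : ℂ)) one_mem_K.1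
    (fun a ha b hb => ⟨(K6_mul a ha b hb).1, by rw [(K6_mul a ha b hb).2]; push_cast; ring⟩)
    (by rw [show sgn6 1 = 1 from by decide +kernel]; norm_num)
  have hsum : ∀ k : Fin 4, ∑ c ∈ K6.filter (fun c => kind c = k), sgn6 c = ![1, -5, 2, 2] k := by
    decide +kernel
  have hK : K6.card = 12 := by decide +kernel
  rw [D.sum_kind χ K6 _ (fun c h => Or.inl h), hK] at hm
  simp only [← Int.cast_sum, hsum, Fin.sum_univ_four] at hm
  refine ⟨m, ?_⟩
  simp [kval] at hm ⊢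
  linear_combination hm

/-- The trivial character of `⟨t⟩ × Alt 4`. -/
theorem exists_alt [IsSimpleGroup G] (χ : Cfsg.IrrCharacter G) :
    ∃ m : ℕ, (deg χ : ℂ) + 7 * (D.val χ : ℂ) + 8 * (χ : G → ℂ) (D.emb (1, x₃)) +
      8 * ((D.cC χ - D.cE χ : ℤ) : ℂ) = 24 * (m : ℂ) := by
  obtain ⟨m, hm⟩ := D.exists_mult χ K12 (fun _ => 1) one_mem_K.2.1
    (fun a ha b hb => ⟨(K12_mul a ha b hb).1, by simp⟩) rfl
  have hcard : ∀ k : Fin 4, (K12.filter (fun c => kind c = k)).card = ![1, 7, 8, 8] k := by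
    decide +kernel
  have hK : K12.card = 24 := by decide +kernel
  rw [D.sum_kind χ K12 _ (fun c h => Or.inr h), hK] at hm
  simp only [Finset.sum_const, nsmul_eq_mul, mul_one, hcard, Fin.sum_univ_four] at hm
  refine ⟨m, ?_⟩
  simp [kval] at hm ⊢
  linear_combination hm

/-- A character of order three of `⟨t⟩ × Alt 4`. -/
theorem exists_omega [IsSimpleGroup G] (χ : Cfsg.IrrCharacter G) :
    ∃ m : ℕ, (deg χ : ℂ) + 7 * (D.val χ : ℂ) - 4 * (χ : G → ℂ) (D.emb (1, x₃)) -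
      4 * ((D.cC χ - D.cE χ : ℤ) : ℂ) = 24 * (m : ℂ) := by
  have h3 : (ω : ℂ) ^ 3 = 1 := by rw [← Units.val_pow_eq_pow_val, ω_pow]; rfl
  obtain ⟨m, hm⟩ := D.exists_mult χ K12 (fun c => (ω : ℂ) ^ (exp3 c).val) one_mem_K.2.1
    (fun a ha b hb => ⟨(K12_mul a ha b hb).1, by
      rw [(K12_mul a ha b hb).2, ← pow_add, ZMod.val_add, ← pow_eq_pow_mod _ h3]⟩)
    (by rw [show exp3 1 = 0 from by decide +kernel]; simp)
  have hcnt : ∀ k : Fin 4,
      ((K12.filter (fun c => kind c = k)).filter (fun c => exp3 c = 0)).card = ![1, 7, 0, 0] k ∧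
      ((K12.filter (fun c => kind c = k)).filter (fun c => exp3 c = 1)).card = ![0, 0, 4, 4] k ∧
      ((K12.filter (fun c => kind c = k)).filter (fun c => exp3 c = 2)).card = ![0, 0, 4, 4] k := by
    decide +kernel
  have hsum : ∀ k : Fin 4, ∑ c ∈ K12.filter (fun c => kind c = k), (ω : ℂ) ^ (exp3 c).val =
      (![1, 7, -4, -4] : Fin 4 → ℂ) k := by
    intro k
    rw [← Finset.sum_fiberwise (K12.filter fun c => kind c = k) exp3, sum_zmod_three]
    have hj : ∀ j : ZMod 3, ∑ c ∈ (K12.filter fun c => kind c = k).filter (fun c => exp3 c = j),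
        (ω : ℂ) ^ (exp3 c).val =
        (((K12.filter fun c => kind c = k).filter (fun c => exp3 c = j)).card : ℂ) * (ω : ℂ) ^ j.val :=
      fun j => by
        rw [Finset.sum_congr rfl (g := fun _ => (ω : ℂ) ^ j.val)
          (fun c hc => by rw [(Finset.mem_filter.1 hc).2]), Finset.sum_const, nsmul_eq_mul]
    rw [hj, hj, hj, (hcnt k).1, (hcnt k).2.1, (hcnt k).2.2,
      show (0 : ZMod 3).val = 0 from rfl, show (1 : ZMod 3).val = 1 from rfl,
      show (2 : ZMod 3).val = 2 from rfl]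
    fin_cases k <;> norm_num
    all_goals linear_combination 4 * ω_sum
  have hK : K12.card = 24 := by decide +kernel
  rw [D.sum_kind χ K12 _ (fun c h => Or.inr h), hK] at hm
  simp only [hsum, Fin.sum_univ_four] at hm
  refine ⟨m, ?_⟩
  simp [kval] at hm ⊢
  linear_combination hm

/-- A non-trivial irreducible character separates `t` from the identity. -/
theorem val_ne_deg [IsSimpleGroup G] {χ : Cfsg.IrrCharacter G} (h : χ ≠ triv G) :
    (deg χ : ℤ) ≠ D.val χ := by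
  intro he
  have h1 : (χ : G → ℂ) D.t = (χ : G → ℂ) 1 := by
    rw [D.apply_t, apply_one, ← he]
    push_cast
    rfl
  have := D.ht
  rw [H36.SelfCentral.ker_trivial h h1, orderOf_one] at this
  omega

omit [Fintype G] in
theorem not_conj_x (x : G) (c : C₀) (hc : InD c) : x⁻¹ * D.emb (1, x₃) * x ≠ D.emb c := by
  intro h
  have hx : ((((1 : Multiplicative (ZMod 2)), x₃) : C₀)) ^ 15 = 1 := by decide +kernel
  have h2 := congrArg (· ^ 15) h
  rw [← map_pow, show c ^ 15 = t₀ from hc,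
    show x⁻¹ * D.emb (1, x₃) * x = x⁻¹ * D.emb (1, x₃) * x⁻¹⁻¹ by rw [inv_inv],
    conj_pow, ← map_pow, hx, map_one, mul_one, mul_inv_cancel, D.emb_t₀] at h2
  have := D.ht
  rw [← h2, orderOf_one] at this
  omega

/-- Orthogonality with the elements of order three. -/
theorem orth_x {θ : A → ℂ} (h : Proj θ) (a : Cfsg.IrrCharacter G → ℤ)
    (ha : ∀ χ : Cfsg.IrrCharacter G, Cfsg.classInner (D.F θ) (χ : G → ℂ) = a χ) :
    ∑ χ : Cfsg.IrrCharacter G, (a χ : ℂ) * (χ : G → ℂ) (D.emb (1, x₃)) = 0 := by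
  rw [D.expansion a ha, D.F_eq_zero h (D.not_conj_x)]

end Setup

end Cfsg.Agent.Coprime.J1
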