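import Cfsg.Agent.Coprime.J1.Model

/-!
# Four generalised characters of `A₅` vanishing on involutions
-/

namespace Cfsg.Agent.Coprime.J1

open Cfsg.Agent.CharInduce Cfsg.Agent.CharBasic

/-- A linear character of a subgroup of `A₅`, as decidable data. -/
structure Lin (n : ℕ) where
  K : Finset A
  k : A → ZMod n
  one_mem : (1 : A) ∈ K
  mul_mem : ∀ a ∈ K, ∀ b ∈ K, a * b ∈ K
  inv_mem : ∀ a ∈ K, a⁻¹ ∈ K
  hom : ∀ a ∈ K, ∀ b ∈ K, k (a * b) = k a + k b

namespace Lin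

variable {n : ℕ} [NeZero n] (L : Lin n)

/-- The subgroup. -/
def sub : Subgroup A where
  carrier := (L.K : Set A)
  one_mem' := L.one_mem
  mul_mem' := fun ha hb => L.mul_mem _ ha _ hb
  inv_mem' := fun ha => L.inv_mem _ ha

omit [NeZero n] in
theorem mem_sub {a : A} : a ∈ L.sub ↔ a ∈ L.K := Iff.rfl

variable (ζ : ℂˣ) (hζ : ζ ^ n = 1)

/-- The linear character. -/
def hom' : L.sub →* ℂˣ where
  toFun a := ζ ^ (L.k a).val
  map_one' := by
    have h := L.hom 1 L.one_mem 1 L.one_mem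
    rw [mul_one] at h
    simp [show L.k 1 = 0 by linear_combination -h]
  map_mul' a b := by
    rw [← pow_add, Subgroup.coe_mul, L.hom _ a.2 _ b.2]
    exact pow_eq_pow_of_modEq (by
      show _ % n = _ % n
      rw [ZMod.val_add, Nat.mod_mod]) hζ

/-- The induced character. -/
noncomputable def ind : A → ℂ := Cfsg.indFun L.sub fun h => (L.hom' ζ hζ h : ℂ)

theorem isChar_ind : Cfsg.IsCharacter A (L.ind ζ hζ) := IsChar.ind _ (isCharacter_hom _)

/-- How often each exponent occurs among the conjugates of `w`. -/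
def count (w : A) (j : ZMod n) : ℕ :=
  ((Finset.univ : Finset A).filter fun x => x⁻¹ * w * x ∈ L.K ∧ L.k (x⁻¹ * w * x) = j).card

open scoped Classical in
theorem ind_apply (w : A) : L.ind ζ hζ w =
    (L.K.card : ℂ)⁻¹ * ∑ j : ZMod n, (L.count w j : ℂ) * (ζ : ℂ) ^ j.val := by
  have hc : Nat.card L.sub = L.K.card := by
    rw [show Nat.card L.sub = Nat.card L.K from rfl, Nat.card_eq_fintype_card, Fintype.card_coe]
  rw [ind, indFun_apply, hc]
  congr 1
  calc ∑ x : A, Cfsg.extendByZero L.sub (fun h => (L.hom' ζ hζ h : ℂ)) (x⁻¹ * w * x)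
      = ∑ x : A, ∑ j : ZMod n,
          if x⁻¹ * w * x ∈ L.K ∧ L.k (x⁻¹ * w * x) = j then (ζ : ℂ) ^ j.val else 0 := by
        refine Finset.sum_congr rfl fun x _ => ?_
        by_cases hx : x⁻¹ * w * x ∈ L.K
        · rw [extendByZero_of_mem _ (L.mem_sub.2 hx)]
          simp [hx, hom']
        · rw [extendByZero_of_not_mem _ (fun h => hx (L.mem_sub.1 h))]
          simp [hx]
    _ = _ := by
        rw [Finset.sum_comm]
        refine Finset.sum_congr rfl fun j _ => ?_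
        rw [← Finset.sum_filter, Finset.sum_const, nsmul_eq_mul]
        rfl

/-- Vanishing on elements with no conjugate in the subgroup. -/
theorem ind_eq_zero {w : A} (h : ∀ x : A, x⁻¹ * w * x ∉ L.K) : L.ind ζ hζ w = 0 :=
  indFun_eq_zero_of_forall_not_mem _ _ fun x => fun hx => h x (L.mem_sub.1 hx)

end Lin

/-- `⟨x₃⟩` with its trivial character. -/
def L3 : Lin 1 where
  K := {1, x₃, x₃ * x₃}
  k := fun _ => 0
  one_mem := by decide +kernel
  mul_mem := by decide +kernel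
  inv_mem := by decide +kernel
  hom := by decide +kernel

/-- `⟨x₃⟩` with a faithful character. -/
def L3w : Lin 3 where
  K := {1, x₃, x₃ * x₃}
  k := fun a => if a = x₃ then 1 else if a = x₃ * x₃ then 2 else 0
  one_mem := by decide +kernel
  mul_mem := by decide +kernel
  inv_mem := by decide +kernel
  hom := by decide +kernel

/-- The exponent with respect to `y₅`. -/
def exp5 (a : A) : ZMod 5 :=
  if a = y₅ then 1 else if a = y₅ * y₅ then 2 else if a = y₅ * y₅ * y₅ then 3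
  else if a = y₅ * y₅ * y₅ * y₅ then 4 else 0

/-- `⟨y₅⟩` with a faithful character. -/
def L5 : Lin 5 where
  K := {1, y₅, y₅ * y₅, y₅ * y₅ * y₅, y₅ * y₅ * y₅ * y₅}
  k := exp5
  one_mem := by decide +kernel
  mul_mem := by decide +kernel
  inv_mem := by decide +kernel
  hom := by decide +kernel

/-- `⟨y₅⟩` with the squared character. -/
def L5' : Lin 5 where
  K := L5.K
  k := fun a => exp5 a + exp5 a
  one_mem := by decide +kernel
  mul_mem := by decide +kernel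
  inv_mem := by decide +kernel
  hom := by decide +kernel

/-- The stabiliser of a point. -/
def L4 : Lin 1 where
  K := Finset.univ.filter fun a : A => (a : Equiv.Perm (Fin 5)) 4 = 4
  k := fun _ => 0
  one_mem := by decide +kernel
  mul_mem := by decide +kernel
  inv_mem := by decide +kernel
  hom := by decide +kernel

noncomputable def ω : ℂˣ :=
  Units.mk0 (Complex.exp (2 * Real.pi * Complex.I / (3 : ℕ))) (Complex.exp_ne_zero _)

noncomputable def ζ : ℂˣ :=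
  Units.mk0 (Complex.exp (2 * Real.pi * Complex.I / (5 : ℕ))) (Complex.exp_ne_zero _)

theorem ω_pow : ω ^ 3 = 1 := Units.ext (by
  simpa [ω] using (Complex.isPrimitiveRoot_exp 3 (by norm_num)).pow_eq_one)

theorem ζ_pow : ζ ^ 5 = 1 := Units.ext (by
  simpa [ζ] using (Complex.isPrimitiveRoot_exp 5 (by norm_num)).pow_eq_one)

theorem ω_sum : (1 : ℂ) + ω + (ω : ℂ) ^ 2 = 0 := by
  have h := (Complex.isPrimitiveRoot_exp 3 (by norm_num)).geom_sum_eq_zero (by norm_num)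
  simpa [Finset.sum_range_succ, ω] using h

theorem ζ_sum : (1 : ℂ) + ζ + (ζ : ℂ) ^ 2 + (ζ : ℂ) ^ 3 + (ζ : ℂ) ^ 4 = 0 := by
  have h := (Complex.isPrimitiveRoot_exp 5 (by norm_num)).geom_sum_eq_zero (by norm_num)
  simpa [Finset.sum_range_succ, ζ] using h

/-- `4`, with values `4, 1, -1, -1` on the odd classes. -/
noncomputable def θc : A → ℂ := L4.ind 1 (one_pow 1) - fun _ => 1

/-- `5 - 1` on the odd classes. -/
noncomputable def θe : A → ℂ :=
  θc - (L3.ind 1 (one_pow 1) - L3w.ind ω ω_pow)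

/-- `3 + 5`. -/
noncomputable def θa : A → ℂ := L5.ind ζ ζ_pow - θc

/-- `3' + 5`. -/
noncomputable def θb : A → ℂ := L5'.ind ζ ζ_pow - θc

theorem isGen_θc : Cfsg.IsGeneralizedCharacter A θc :=
  ⟨_, _, L4.isChar_ind _ _, IsChar.one, rfl⟩

theorem one_ζ : ((1 : ℂˣ) : ℂ) = 1 := rfl

theorem count_4 (w : A) (h : w * w = 1) (hw : w ≠ 1) : L4.count w 0 = 12 := by
  revert w; decide +kernel

theorem no_conj_K (w : A) (h : w * w = 1) (hw : w ≠ 1) (x : A) :
    x⁻¹ * w * x ∉ L3.K ∧ x⁻¹ * w * x ∉ L3w.K ∧ x⁻¹ * w * x ∉ L5.K ∧ x⁻¹ * w * x ∉ L5'.K := by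
  revert x; revert w; decide +kernel

theorem card_K : L4.K.card = 12 ∧ L3.K.card = 3 ∧ L3w.K.card = 3 ∧ L5.K.card = 5 ∧
    L5'.K.card = 5 := by decide +kernel

theorem θc_inv (w : A) (h : w * w = 1) (hw : w ≠ 1) : θc w = 0 := by
  rw [θc, Pi.sub_apply, Lin.ind_apply, card_K.1]
  rw [show (Finset.univ : Finset (ZMod 1)) = {0} from rfl, Finset.sum_singleton, count_4 w h hw]
  norm_num

theorem proj_θc : Proj θc := ⟨isGen_θc, θc_inv⟩

theorem proj_θe : Proj θe := by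
  refine ⟨IsGen.sub isGen_θc ⟨_, _, L3.isChar_ind _ _, L3w.isChar_ind _ _, rfl⟩, fun w h hw => ?_⟩
  simp only [θe, Pi.sub_apply, θc_inv w h hw,
    Lin.ind_eq_zero _ _ _ fun x => (no_conj_K w h hw x).1,
    Lin.ind_eq_zero _ _ _ fun x => (no_conj_K w h hw x).2.1, sub_zero]

theorem proj_θa : Proj θa := by
  refine ⟨IsGen.sub (IsGen.of_char (L5.isChar_ind _ _)) isGen_θc, fun w h hw => ?_⟩
  simp only [θa, Pi.sub_apply, θc_inv w h hw,
    Lin.ind_eq_zero _ _ _ fun x => (no_conj_K w h hw x).2.2.1, sub_zero]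

theorem proj_θb : Proj θb := by
  refine ⟨IsGen.sub (IsGen.of_char (L5'.isChar_ind _ _)) isGen_θc, fun w h hw => ?_⟩
  simp only [θb, Pi.sub_apply, θc_inv w h hw,
    Lin.ind_eq_zero _ _ _ fun x => (no_conj_K w h hw x).2.2.2, sub_zero]

noncomputable def α : ℂ := 1 + ζ + (ζ : ℂ) ^ 4

noncomputable def β : ℂ := 1 + (ζ : ℂ) ^ 2 + (ζ : ℂ) ^ 3

theorem α_add_β : α + β = 1 := by
  unfold α β; linear_combination ζ_sum

theorem α_mul_β : α * β = -1 := by
  have h5 : (ζ : ℂ) ^ 5 = 1 := by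
    rw [← Units.val_pow_eq_pow_val, ζ_pow]; rfl
  unfold α β
  linear_combination 2 * ζ_sum + ((ζ : ℂ) + (ζ : ℂ) ^ 2) * h5

/-- The values at `1, x₃, y₅, y₅²`. -/
def oddRep : Fin 4 → A := ![1, x₃, y₅, y₅ * y₅]

theorem count_values :
    (∀ i, L4.count (oddRep i) 0 = ![60, 24, 0, 0] i) ∧
    (∀ i, L3.count (oddRep i) 0 = ![60, 6, 0, 0] i) ∧
    (∀ i, L3w.count (oddRep i) 0 = ![60, 0, 0, 0] i ∧
      L3w.count (oddRep i) 1 = ![0, 3, 0, 0] i ∧
      L3w.count (oddRep i) 2 = ![0, 3, 0, 0] i) ∧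
    (∀ i, L5.count (oddRep i) 0 = ![60, 0, 0, 0] i ∧
      L5.count (oddRep i) 1 = ![0, 0, 5, 0] i ∧
      L5.count (oddRep i) 2 = ![0, 0, 0, 5] i ∧
      L5.count (oddRep i) 3 = ![0, 0, 0, 5] i ∧
      L5.count (oddRep i) 4 = ![0, 0, 5, 0] i) ∧
    (∀ i, L5'.count (oddRep i) 0 = ![60, 0, 0, 0] i ∧
      L5'.count (oddRep i) 1 = ![0, 0, 0, 5] i ∧
      L5'.count (oddRep i) 2 = ![0, 0, 5, 0] i ∧
      L5'.count (oddRep i) 3 = ![0, 0, 5, 0] i ∧
      L5'.count (oddRep i) 4 = ![0, 0, 0, 5] i) := by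
  decide +kernel

theorem sum_zmod_one (F : ZMod 1 → ℂ) : ∑ j, F j = F 0 := Fin.sum_univ_one F

theorem sum_zmod_three (F : ZMod 3 → ℂ) : ∑ j, F j = F 0 + F 1 + F 2 := Fin.sum_univ_three F

theorem sum_zmod_five (F : ZMod 5 → ℂ) : ∑ j, F j = F 0 + F 1 + F 2 + F 3 + F 4 :=
  Fin.sum_univ_five F

theorem θc_values : ∀ i, θc (oddRep i) = ![4, 1, -1, -1] i := by
  obtain ⟨h4, -, -, -, -⟩ := count_values
  intro i
  rw [θc, Pi.sub_apply, Lin.ind_apply, sum_zmod_one, h4, card_K.1]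
  fin_cases i <;> norm_num

theorem θe_values : ∀ i, θe (oddRep i) = ![4, -2, -1, -1] i := by
  obtain ⟨-, h3, h3w, -, -⟩ := count_values
  obtain ⟨-, k3, k3w, -, -⟩ := card_K
  intro i
  rw [θe, Pi.sub_apply, Pi.sub_apply, θc_values, Lin.ind_apply, Lin.ind_apply, sum_zmod_one,
    sum_zmod_three, h3, (h3w i).1, (h3w i).2.1, (h3w i).2.2, k3, k3w]
  have hw := ω_sum
  have v0 : (0 : ZMod 3).val = 0 := rfl
  have v1 : (1 : ZMod 3).val = 1 := rfl
  have v2 : (2 : ZMod 3).val = 2 := rfl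
  rw [v0, v1, v2]
  fin_cases i <;> norm_num
  linear_combination hw

theorem θa_values : ∀ i, θa (oddRep i) = ![8, -1, α, β] i := by
  obtain ⟨-, -, -, h5, -⟩ := count_values
  obtain ⟨-, -, -, k5, -⟩ := card_K
  intro i
  rw [θa, Pi.sub_apply, θc_values, Lin.ind_apply, sum_zmod_five, (h5 i).1, (h5 i).2.1, (h5 i).2.2.1,
    (h5 i).2.2.2.1, (h5 i).2.2.2.2, k5]
  have v0 : (0 : ZMod 5).val = 0 := rfl
  have v1 : (1 : ZMod 5).val = 1 := rfl
  have v2 : (2 : ZMod 5).val = 2 := rfl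
  have v3 : (3 : ZMod 5).val = 3 := rfl
  have v4 : (4 : ZMod 5).val = 4 := rfl
  rw [v0, v1, v2, v3, v4]
  fin_cases i <;> norm_num [α, β] <;> ring

theorem θb_values : ∀ i, θb (oddRep i) = ![8, -1, β, α] i := by
  obtain ⟨-, -, -, -, h5⟩ := count_values
  obtain ⟨-, -, -, -, k5⟩ := card_K
  intro i
  rw [θb, Pi.sub_apply, θc_values, Lin.ind_apply, sum_zmod_five, (h5 i).1, (h5 i).2.1, (h5 i).2.2.1,
    (h5 i).2.2.2.1, (h5 i).2.2.2.2, k5]
  have v0 : (0 : ZMod 5).val = 0 := rfl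
  have v1 : (1 : ZMod 5).val = 1 := rfl
  have v2 : (2 : ZMod 5).val = 2 := rfl
  have v3 : (3 : ZMod 5).val = 3 := rfl
  have v4 : (4 : ZMod 5).val = 4 := rfl
  rw [v0, v1, v2, v3, v4]
  fin_cases i <;> norm_num [α, β] <;> ring

theorem rep_eq (i : Fin 4) : rep i = (tu, oddRep i) := by fin_cases i <;> rfl

theorem lift_rep (θ : A → ℂ) (i : Fin 4) : lift θ (rep i) = 2 * θ (oddRep i) := by
  rw [rep_eq, lift, if_pos rfl]

end Cfsg.Agent.Coprime.J1
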